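import Cfsg.Agent.Lib.Fus.Fi23Out.ClassData
import Cfsg.Agent.Lib.Spor.Cos.Fi23.ActAData

/-! Checks of possible images. -/

set_option autoImplicit false
set_option maxRecDepth 100000
set_option maxHeartbeats 4000000

open Cfsg.Agent.Spor.Cos Cfsg.Agent.Spor.Cos.Triple Cfsg.Agent.Fus.Transp

namespace Cfsg.Agent.Fus.Fi23Out

open Cfsg.Agent.Spor.Cos.Fi23 (actA)

theorem cand3_ok_b0 : allBlock (chkCand actA rt3) 31671 2048 0 = true := by decide +kernel

theorem cand3_ok_b1 : allBlock (chkCand actA rt3) 31671 2048 1 = true := by decide +kernel

theorem cand3_ok_b2 : allBlock (chkCand actA rt3) 31671 2048 2 = true := by decide +kernel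

theorem cand3_ok_b3 : allBlock (chkCand actA rt3) 31671 2048 3 = true := by decide +kernel

theorem cand3_ok_b4 : allBlock (chkCand actA rt3) 31671 2048 4 = true := by decide +kernel

theorem cand3_ok_b5 : allBlock (chkCand actA rt3) 31671 2048 5 = true := by decide +kernel

theorem cand3_ok_b6 : allBlock (chkCand actA rt3) 31671 2048 6 = true := by decide +kernel

theorem cand3_ok_b7 : allBlock (chkCand actA rt3) 31671 2048 7 = true := by decide +kernel

theorem cand3_ok_b8 : allBlock (chkCand actA rt3) 31671 2048 8 = true := by decide +kernel

theorem cand3_ok_b9 : allBlock (chkCand actA rt3) 31671 2048 9 = true := by decide +kernel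

theorem cand3_ok_b10 : allBlock (chkCand actA rt3) 31671 2048 10 = true := by decide +kernel

theorem cand3_ok_b11 : allBlock (chkCand actA rt3) 31671 2048 11 = true := by decide +kernel

theorem cand3_ok_b12 : allBlock (chkCand actA rt3) 31671 2048 12 = true := by decide +kernel

theorem cand3_ok_b13 : allBlock (chkCand actA rt3) 31671 2048 13 = true := by decide +kernel

theorem cand3_ok_b14 : allBlock (chkCand actA rt3) 31671 2048 14 = true := by decide +kernel

theorem cand3_ok_b15 : allBlock (chkCand actA rt3) 31671 2048 15 = true := by decide +kernel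

theorem cand3_ok : ∀ i < 31671, (chkCand actA rt3) i = true :=
  of_blocks (size := 2048) (b := 16) (by decide) (by decide) fun j hj => by
    interval_cases j
    · exact cand3_ok_b0
    · exact cand3_ok_b1
    · exact cand3_ok_b2
    · exact cand3_ok_b3
    · exact cand3_ok_b4
    · exact cand3_ok_b5
    · exact cand3_ok_b6
    · exact cand3_ok_b7
    · exact cand3_ok_b8
    · exact cand3_ok_b9
    · exact cand3_ok_b10
    · exact cand3_ok_b11
    · exact cand3_ok_b12
    · exact cand3_ok_b13
    · exact cand3_ok_b14
    · exact cand3_ok_b15

theorem cand4_ok_b0 : allBlock (chkCand actA rt4) 31671 2048 0 = true := by decide +kernel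

theorem cand4_ok_b1 : allBlock (chkCand actA rt4) 31671 2048 1 = true := by decide +kernel

theorem cand4_ok_b2 : allBlock (chkCand actA rt4) 31671 2048 2 = true := by decide +kernel

theorem cand4_ok_b3 : allBlock (chkCand actA rt4) 31671 2048 3 = true := by decide +kernel

theorem cand4_ok_b4 : allBlock (chkCand actA rt4) 31671 2048 4 = true := by decide +kernel

theorem cand4_ok_b5 : allBlock (chkCand actA rt4) 31671 2048 5 = true := by decide +kernel

theorem cand4_ok_b6 : allBlock (chkCand actA rt4) 31671 2048 6 = true := by decide +kernel

theorem cand4_ok_b7 : allBlock (chkCand actA rt4) 31671 2048 7 = true := by decide +kernel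

theorem cand4_ok_b8 : allBlock (chkCand actA rt4) 31671 2048 8 = true := by decide +kernel

theorem cand4_ok_b9 : allBlock (chkCand actA rt4) 31671 2048 9 = true := by decide +kernel

theorem cand4_ok_b10 : allBlock (chkCand actA rt4) 31671 2048 10 = true := by decide +kernel

theorem cand4_ok_b11 : allBlock (chkCand actA rt4) 31671 2048 11 = true := by decide +kernel

theorem cand4_ok_b12 : allBlock (chkCand actA rt4) 31671 2048 12 = true := by decide +kernel

theorem cand4_ok_b13 : allBlock (chkCand actA rt4) 31671 2048 13 = true := by decide +kernel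

theorem cand4_ok_b14 : allBlock (chkCand actA rt4) 31671 2048 14 = true := by decide +kernel

theorem cand4_ok_b15 : allBlock (chkCand actA rt4) 31671 2048 15 = true := by decide +kernel

theorem cand4_ok : ∀ i < 31671, (chkCand actA rt4) i = true :=
  of_blocks (size := 2048) (b := 16) (by decide) (by decide) fun j hj => by
    interval_cases j
    · exact cand4_ok_b0
    · exact cand4_ok_b1
    · exact cand4_ok_b2
    · exact cand4_ok_b3
    · exact cand4_ok_b4
    · exact cand4_ok_b5
    · exact cand4_ok_b6
    · exact cand4_ok_b7
    · exact cand4_ok_b8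
    · exact cand4_ok_b9
    · exact cand4_ok_b10
    · exact cand4_ok_b11
    · exact cand4_ok_b12
    · exact cand4_ok_b13
    · exact cand4_ok_b14
    · exact cand4_ok_b15

theorem cand5_ok_b0 : allBlock (chkCand actA rt5) 31671 2048 0 = true := by decide +kernel

theorem cand5_ok_b1 : allBlock (chkCand actA rt5) 31671 2048 1 = true := by decide +kernel

theorem cand5_ok_b2 : allBlock (chkCand actA rt5) 31671 2048 2 = true := by decide +kernel

theorem cand5_ok_b3 : allBlock (chkCand actA rt5) 31671 2048 3 = true := by decide +kernel

theorem cand5_ok_b4 : allBlock (chkCand actA rt5) 31671 2048 4 = true := by decide +kernel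

theorem cand5_ok_b5 : allBlock (chkCand actA rt5) 31671 2048 5 = true := by decide +kernel

theorem cand5_ok_b6 : allBlock (chkCand actA rt5) 31671 2048 6 = true := by decide +kernel

theorem cand5_ok_b7 : allBlock (chkCand actA rt5) 31671 2048 7 = true := by decide +kernel

theorem cand5_ok_b8 : allBlock (chkCand actA rt5) 31671 2048 8 = true := by decide +kernel

theorem cand5_ok_b9 : allBlock (chkCand actA rt5) 31671 2048 9 = true := by decide +kernel

theorem cand5_ok_b10 : allBlock (chkCand actA rt5) 31671 2048 10 = true := by decide +kernel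

theorem cand5_ok_b11 : allBlock (chkCand actA rt5) 31671 2048 11 = true := by decide +kernel

theorem cand5_ok_b12 : allBlock (chkCand actA rt5) 31671 2048 12 = true := by decide +kernel

theorem cand5_ok_b13 : allBlock (chkCand actA rt5) 31671 2048 13 = true := by decide +kernel

theorem cand5_ok_b14 : allBlock (chkCand actA rt5) 31671 2048 14 = true := by decide +kernel

theorem cand5_ok_b15 : allBlock (chkCand actA rt5) 31671 2048 15 = true := by decide +kernel

theorem cand5_ok : ∀ i < 31671, (chkCand actA rt5) i = true :=
  of_blocks (size := 2048) (b := 16) (by decide) (by decide) fun j hj => by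
    interval_cases j
    · exact cand5_ok_b0
    · exact cand5_ok_b1
    · exact cand5_ok_b2
    · exact cand5_ok_b3
    · exact cand5_ok_b4
    · exact cand5_ok_b5
    · exact cand5_ok_b6
    · exact cand5_ok_b7
    · exact cand5_ok_b8
    · exact cand5_ok_b9
    · exact cand5_ok_b10
    · exact cand5_ok_b11
    · exact cand5_ok_b12
    · exact cand5_ok_b13
    · exact cand5_ok_b14
    · exact cand5_ok_b15


end Cfsg.Agent.Fus.Fi23Out
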