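import Cfsg.Agent.Lib.Fus.Fi23Out.ClassData
import Cfsg.Agent.Lib.Spor.Cos.Fi23.ActAData

/-! Checks of the series. -/

set_option autoImplicit false
set_option maxRecDepth 100000
set_option maxHeartbeats 4000000

open Cfsg.Agent.Spor.Cos Cfsg.Agent.Spor.Cos.Triple Cfsg.Agent.Fus.Transp

namespace Cfsg.Agent.Fus.Fi23Out

open Cfsg.Agent.Spor.Cos.Fi23 (actA)

theorem chain0_ok : chkChain actA qs chainH chainE 0 = true := by decide +kernel

theorem chain1_ok : chkChain actA qs chainH chainE 1 = true := by decide +kernel

theorem chain2_ok : chkChain actA qs chainH chainE 2 = true := by decide +kernel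

theorem chain3_ok : chkChain actA qs chainH chainE 3 = true := by decide +kernel

theorem chain4_ok : chkChain actA qs chainH chainE 4 = true := by decide +kernel

theorem chain5_ok : chkChain actA qs chainH chainE 5 = true := by decide +kernel

theorem chain6_ok : chkChain actA qs chainH chainE 6 = true := by decide +kernel

theorem chain7_ok : chkChain actA qs chainH chainE 7 = true := by decide +kernel

theorem chain8_ok : chkChain actA qs chainH chainE 8 = true := by decide +kernel

theorem chain9_ok : chkChain actA qs chainH chainE 9 = true := by decide +kernel

theorem chain10_ok : chkChain actA qs chainH chainE 10 = true := by decide +kernel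


end Cfsg.Agent.Fus.Fi23Out
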