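import Cfsg.Agent.Lib.Fus.TranspClass
import Cfsg.Agent.Lib.Spor.Cos.Fi23.ActAData

/-! Data of the transposition class. -/

set_option autoImplicit false
set_option maxRecDepth 100000
set_option maxHeartbeats 4000000

open Cfsg.Agent.Spor.Cos Cfsg.Agent.Spor.Cos.Triple Cfsg.Agent.Fus.Transp

namespace Cfsg.Agent.Fus.Fi23Out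

open Cfsg.Agent.Spor.Cos.Fi23 (actA)

/-- The points of the generators. -/
def qs : List ℕ := [31670, 31502, 31503, 31510, 31497, 31422, 11291, 31421, 31657, 31669]

/-- The word of the transposition. -/
def tw : List ℕ := [1, 2, 3, 4, 5, 6, 8, 1, 2, 3, 4, 5, 6, 8, 1, 2, 3, 4, 5, 6, 8, 1, 2, 3, 4, 5, 6, 8, 1, 2, 3, 4, 5, 6, 8, 1, 2, 3, 4, 5, 6, 8, 1, 2, 3, 4, 5, 6, 8, 1, 2, 3, 4, 5, 6, 8, 1, 2, 3, 4, 5, 6, 8]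

/-- The words from the base to the points of the generators. -/
def qu : List (List ℕ) := [[1, 2, 3, 8, 4, 5, 3, 4, 2, 3, 8, 6, 7, 5, 6, 4, 5, 3, 4, 2, 3, 8, 0, 1, 2, 3, 4, 5, 6, 7],
    [2, 3, 8, 4, 5, 3, 4, 2, 3, 8, 6, 7, 5, 6, 4, 5, 3, 4, 2, 3, 8, 1, 2, 3, 4, 5, 6, 7],
    [3, 8, 4, 5, 3, 4, 1, 2, 3, 8, 6, 7, 5, 6, 4, 5, 3, 4, 2, 3, 8, 1, 2, 3, 4, 5, 6, 7],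
    [8, 4, 5, 2, 3, 4, 1, 2, 3, 8, 6, 7, 5, 6, 4, 5, 3, 4, 2, 3, 8, 1, 2, 3, 4, 5, 6, 7],
    [3, 8, 5, 2, 3, 4, 1, 2, 3, 8, 6, 7, 5, 6, 4, 5, 3, 4, 2, 3, 8, 1, 2, 3, 4, 5, 6, 7],
    [4, 3, 8, 2, 3, 4, 1, 2, 3, 8, 6, 7, 5, 6, 4, 5, 3, 4, 2, 3, 8, 1, 2, 3, 4, 5, 6, 7],
    [5, 4, 3, 8, 2, 3, 4, 1, 2, 3, 8, 7, 5, 6, 4, 5, 3, 4, 2, 3, 8, 1, 2, 3, 4, 5, 6, 7],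
    [6, 5, 4, 3, 8, 2, 3, 4, 1, 2, 3, 8, 5, 6, 4, 5, 3, 4, 2, 3, 8, 1, 2, 3, 4, 5, 6, 7],
    [3, 4, 5, 2, 3, 4, 1, 2, 3, 8, 6, 7, 5, 6, 4, 5, 3, 4, 2, 3, 8, 1, 2, 3, 4, 5, 6, 7],
    [8, 3, 4, 2, 3, 8, 5, 6, 4, 5, 3, 4, 2, 3, 8, 9, 7, 6, 5, 4, 3, 8, 2, 3, 4, 5, 6, 7]]

/-- A series of a two-group. -/
def chainH : List (List ℕ) := [[7, 6, 5, 4, 3, 8, 9, 4, 2, 3, 8, 1, 2, 3, 4, 5, 6, 7, 6, 5, 4, 3, 8, 9, 4, 3, 8, 5, 6, 4, 5, 3, 4, 2, 3, 8, 1, 2, 3, 4, 5, 6, 9, 8, 1, 2, 3, 4, 5, 1, 2, 3, 4, 9, 2, 3, 8, 1, 2, 3, 8, 9, 1],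
    [4, 2, 3, 8, 9, 7, 6, 3, 4, 5, 2, 3, 4, 1, 2, 3, 8, 0, 1, 2, 3, 4, 5, 6, 7, 5, 4, 2, 3, 8, 9, 3, 8, 6, 5, 2, 3, 4, 1, 2, 3, 8, 0, 1, 2, 3, 4, 5, 6, 2, 3, 8, 9, 4, 3, 8, 2, 3, 4, 1, 2, 3, 8, 0, 1, 2, 3, 4, 5, 9, 3, 8, 0, 1, 2, 3, 4, 9, 3, 8, 1, 2, 3, 0, 1, 0],
    [4, 2, 3, 8, 9, 7, 6, 3, 4, 5, 2, 3, 4, 1, 2, 3, 8, 0, 1, 2, 3, 4, 5, 6, 7, 5, 4, 2, 3, 8, 9, 3, 8, 6, 5, 2, 3, 4, 1, 2, 3, 8, 0, 1, 2, 3, 4, 5, 6, 2, 3, 8, 9, 4, 3, 8, 2, 3, 4, 1, 2, 3, 8, 0, 1, 2, 3, 4, 5, 0, 1, 2, 3, 8, 9, 3, 4, 1, 2, 3, 8, 0, 1, 2, 3, 4, 8, 9, 2, 3, 8, 1, 2, 3, 9, 8, 0, 1, 2, 9, 1, 0],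
    [8, 9, 3, 8, 2, 3, 4, 1, 2, 3, 8, 9, 7, 6, 4, 5, 2, 3, 4, 1, 2, 3, 8, 0, 1, 2, 3, 4, 5, 6, 7, 5, 4, 3, 8, 2, 3, 4, 5, 6, 5, 4, 3, 8, 2, 3, 4, 5, 1, 2, 3, 8, 9, 8, 3, 4, 2, 3, 8, 0, 1, 2, 3, 4, 8, 3, 9, 8, 9, 0, 1, 0],
    [5, 4, 2, 3, 8, 9, 6, 5, 4, 3, 8, 2, 3, 4, 5, 6, 7, 9, 8, 3, 4, 5, 2, 3, 4, 0, 1, 2, 3, 8, 9, 3, 8, 6, 5, 2, 3, 4, 1, 2, 3, 8, 0, 1, 2, 3, 4, 5, 6, 9, 0, 1, 2, 3, 8, 4, 5, 3, 4, 0, 1, 2, 3, 8, 9, 4, 1, 2, 3, 8, 0, 1, 2, 3, 4, 5, 4, 3, 8, 9, 3, 8, 2, 3, 4, 1, 2, 3, 8, 0, 1, 2, 3, 4, 9, 8, 1, 2, 3, 1, 2, 0, 1],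
    [3, 4, 1, 2, 3, 8, 9, 7, 6, 5, 4, 2, 3, 8, 1, 2, 3, 4, 5, 6, 7, 5, 3, 4, 2, 3, 8, 9, 8, 5, 6, 4, 5, 3, 4, 2, 3, 8, 0, 1, 2, 3, 4, 5, 6, 9, 8, 1, 2, 3, 4, 5, 1, 2, 3, 8, 9, 4, 3, 8, 0, 1, 2, 3, 4, 2, 3, 0, 1],
    [8, 9, 3, 8, 2, 3, 4, 1, 2, 3, 8, 9, 7, 6, 4, 5, 2, 3, 4, 1, 2, 3, 8, 0, 1, 2, 3, 4, 5, 6, 7, 1, 2, 3, 8, 9, 8, 3, 4, 2, 3, 8, 0, 1, 2, 3, 4, 8, 3, 9, 8, 0, 1, 0],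
    [8, 7, 6, 5, 3, 4, 2, 3, 8, 9, 8, 3, 4, 2, 3, 8, 1, 2, 3, 4, 5, 6, 7, 9, 1, 2, 3, 8, 6, 4, 5, 3, 4, 1, 2, 3, 8, 9, 6, 5, 3, 4, 1, 2, 3, 8, 0, 1, 2, 3, 4, 5, 6, 9, 8, 1, 2, 3, 4, 5, 8, 9, 4, 3, 8, 0, 1, 2, 3, 4, 3, 9, 8, 9, 1, 0],
    [8, 5, 3, 4, 2, 3, 8, 6, 7, 5, 6, 4, 5, 3, 4, 2, 3, 8, 0, 1, 2, 3, 4, 5, 6, 7, 3, 4, 5, 2, 3, 4, 1, 2, 3, 8, 9, 6, 4, 5, 3, 4, 2, 3, 8, 1, 2, 3, 4, 5, 6, 5, 4, 3, 8, 1, 2, 3, 4, 5, 9, 8, 3, 4, 2, 3, 8, 9, 8, 3, 4, 1, 2, 3, 8, 0, 1, 2, 3, 4, 8, 9, 1, 2, 3, 8, 0, 1, 2, 3, 8, 0, 1, 2, 0, 1],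
    [3, 4, 2, 3, 8, 9, 7, 6, 5, 3, 4, 2, 3, 8, 1, 2, 3, 4, 5, 6, 7, 9, 2, 3, 8, 4, 5, 3, 4, 2, 3, 8, 9, 8, 6, 4, 5, 2, 3, 4, 1, 2, 3, 8, 0, 1, 2, 3, 4, 5, 6, 2, 3, 8, 9, 4, 3, 8, 2, 3, 4, 1, 2, 3, 8, 0, 1, 2, 3, 4, 5, 8, 9, 3, 8, 2, 3, 4, 1, 2, 3, 8, 0, 1, 2, 3, 4, 9, 8, 2, 3, 0],
    [8, 9, 2, 3, 8, 5, 6, 4, 5, 3, 4, 2, 3, 8, 9, 3, 4, 5, 2, 3, 4, 1, 2, 3, 8, 0, 1, 2, 3, 4, 5, 6, 7, 8, 9, 5, 3, 4, 2, 3, 8, 5, 6, 3, 4, 5, 2, 3, 4, 1, 2, 3, 8, 9, 6, 5, 2, 3, 4, 1, 2, 3, 8, 0, 1, 2, 3, 4, 5, 6, 8, 5, 2, 3, 4, 0, 1, 2, 3, 8, 9, 8, 3, 4, 2, 3, 8, 1, 2, 3, 4, 5, 8, 9, 8, 3, 4, 2, 3, 8, 1, 2, 3, 4, 9, 1, 2, 3, 8, 0, 1, 2, 3, 9,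 8, 0, 1, 2, 9, 1, 0],
    [3, 8, 9, 6, 5, 4, 3, 8, 2, 3, 4, 1, 2, 3, 8, 9, 3, 8, 5, 2, 3, 4, 1, 2, 3, 8, 0, 1, 2, 3, 4, 5, 6, 7, 9, 4, 3, 8, 6, 5, 2, 3, 4, 1, 2, 3, 8, 9, 6, 4, 5, 3, 4, 1, 2, 3, 8, 0, 1, 2, 3, 4, 5, 6, 2, 3, 8, 4, 5, 3, 4, 1, 2, 3, 8, 9, 8, 4, 5, 2, 3, 4, 1, 2, 3, 8, 0, 1, 2, 3, 4, 5, 1, 2, 3, 8, 9, 4, 3, 8, 2, 3, 4, 1, 2, 3, 8, 0, 1, 2, 3, 4, 3, 8, 9, 1, 2, 3, 8, 0, 1, 2, 3, 9, 8, 2, 9, 0],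
    [4, 3, 8, 7, 6, 3, 4, 5, 2, 3, 4, 1, 2, 3, 8, 9, 8, 4, 5, 2, 3, 4, 1, 2, 3, 8, 0, 1, 2, 3, 4, 5, 6, 7, 9, 8, 4, 5, 2, 3, 4, 0, 1, 2, 3, 8, 9, 3, 8, 6, 5, 2, 3, 4, 1, 2, 3, 8, 0, 1, 2, 3, 4, 5, 6, 2, 3, 8, 9, 4, 3, 8, 2, 3, 4, 1, 2, 3, 8, 0, 1, 2, 3, 4, 5, 8, 2, 3, 4, 1, 2, 3, 8, 9, 2, 3, 4, 1, 2, 3, 8, 0, 1, 2, 3, 4, 8, 9, 2, 3, 8, 0, 1, 2, 3, 1, 0],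
    [8, 2, 3, 4, 1, 2, 3, 8, 9, 5, 6, 4, 5, 3, 4, 2, 3, 8, 0, 1, 2, 3, 4, 5, 6, 7, 0, 1, 2, 3, 8, 4, 5, 3, 4, 0, 1, 2, 3, 8, 9, 6, 5, 2, 3, 4, 1, 2, 3, 8, 0, 1, 2, 3, 4, 5, 6, 8, 9, 3, 8, 2, 3, 4, 5, 8, 9, 8, 2, 3, 4, 1, 2, 3, 8, 0, 1, 2, 3, 4, 9, 1, 2, 3, 8, 0, 1, 2, 3, 9, 8, 1, 2, 9, 1],
    [8, 9, 3, 8, 6, 4, 5, 3, 4, 2, 3, 8, 9, 4, 5, 3, 4, 1, 2, 3, 8, 0, 1, 2, 3, 4, 5, 6, 7, 8, 9, 3, 4, 2, 3, 8, 5, 6, 4, 5, 2, 3, 4, 0, 1, 2, 3, 8, 9, 6, 5, 4, 1, 2, 3, 8, 0, 1, 2, 3, 4, 5, 6, 3, 8, 9, 4, 2, 3, 8, 4, 5, 2, 3, 4, 0, 1, 2, 3, 8, 9, 5, 2, 3, 4, 1, 2, 3, 8, 0, 1, 2, 3, 4, 5, 3, 4, 2, 3, 8, 9, 4, 1, 2, 3, 8, 0, 1, 2, 3, 4,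 3, 8, 9, 2, 3, 8, 1, 2, 3, 8, 0],
    [8, 9, 4, 1, 2, 3, 8, 7, 6, 4, 5, 2, 3, 4, 1, 2, 3, 8, 9, 4, 5, 3, 4, 1, 2, 3, 8, 0, 1, 2, 3, 4, 5, 6, 7, 9, 8, 2, 3, 4, 0, 1, 2, 3, 8, 9, 6, 4, 5, 2, 3, 4, 1, 2, 3, 8, 0, 1, 2, 3, 4, 5, 6, 5, 4, 3, 8, 2, 3, 4, 5, 8, 3, 4, 0, 1, 2, 3, 8, 9, 8, 3, 4, 2, 3, 8, 0, 1, 2, 3, 4, 3, 8, 9, 1, 2, 3, 8, 0, 1, 2, 3, 1, 2, 9],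
    [3, 4, 1, 2, 3, 8, 9, 7, 6, 3, 4, 5, 2, 3, 4, 1, 2, 3, 8, 0, 1, 2, 3, 4, 5, 6, 7, 9, 8, 6, 5, 3, 4, 2, 3, 8, 9, 4, 5, 3, 4, 2, 3, 8, 0, 1, 2, 3, 4, 5, 6, 3, 8, 4, 5, 3, 4, 1, 2, 3, 8, 9, 8, 3, 4, 2, 3, 8, 1, 2, 3, 4, 5, 9, 8, 3, 4, 2, 3, 8, 0, 1, 2, 3, 4, 9, 3, 8, 1, 2, 3, 8, 1, 2, 9, 1],
    [4, 3, 8, 9, 2, 3, 8, 6, 4, 5, 3, 4, 2, 3, 8, 9, 2, 3, 4, 1, 2, 3, 8, 0, 1, 2, 3, 4, 5, 6, 7, 0, 1, 2, 3, 8, 9, 5, 3, 4, 2, 3, 8, 0, 1, 2, 3, 4, 5, 6, 4, 2, 3, 8, 4, 5, 2, 3, 4, 0, 1, 2, 3, 8, 9, 4, 5, 3, 4, 1, 2, 3, 8, 0, 1, 2, 3, 4, 5, 3, 8, 9, 3, 8, 2, 3, 4, 1, 2, 3, 8, 0, 1, 2, 3, 4, 8, 9, 3, 8, 0, 1, 2, 3, 8, 2, 9, 0, 1]]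

/-- Its squares and commutators. -/
def chainE : List (List ℕ) := [[0],
    [0, 0],
    [0, 0, 0],
    [0, 0, 0, 0],
    [0, 0, 0, 0, 0],
    [0, 0, 0, 0, 0, 0],
    [0, 0, 0, 0, 0, 0, 0],
    [0, 0, 0, 0, 0, 0, 0, 2],
    [0, 0, 0, 0, 0, 0, 0, 2, 0],
    [0, 0, 0, 0, 0, 0, 2, 2, 0, 0],
    [0, 0, 0, 0, 0, 0, 0, 10, 2, 16, 8],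
    [0, 0, 0, 0, 2, 9, 0, 1, 0, 16, 75, 65],
    [0, 0, 0, 0, 0, 0, 10, 26, 16, 0, 16, 499, 0],
    [0, 0, 0, 0, 0, 0, 0, 17, 0, 28, 17, 322, 36, 0],
    [0, 0, 3, 2, 10, 20, 2, 29, 65, 190, 344, 337, 1663, 1259, 3157],
    [0, 0, 0, 0, 0, 0, 25, 29, 14, 16, 58, 627, 0, 41, 13059, 62],
    [0, 0, 0, 2, 2, 31, 2, 21, 0, 18, 347, 274, 1023, 281, 3397, 153, 339],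
    [0, 0, 0, 2, 0, 20, 17, 66, 30, 264, 373, 646, 2038, 71, 15131, 9732, 872, 8432]]

/-- The elements squared. -/
def sqM : List ℕ := [118588, 146740, 224621, 122067, 133127]

/-- Their squares. -/
def sW : List (List ℕ) := [[9, 8, 3, 4, 2, 3, 8, 9, 8, 5, 6, 4, 5, 3, 4, 1, 2, 3, 8, 0, 1, 2, 3, 4, 5, 6, 7, 8, 9, 2, 3, 8, 4, 5, 3, 4, 2, 3, 8, 9, 6, 5, 3, 4, 1, 2, 3, 8, 0, 1, 2, 3, 4, 5, 6, 1, 2, 3, 8, 4, 5, 3, 4, 2, 3, 8, 9, 8, 3, 4, 2, 3, 8, 0, 1, 2, 3, 4, 5, 8, 3, 4, 2, 3, 8, 9, 8, 2, 3, 4, 1, 2, 3, 8, 0, 1, 2, 3, 4, 2, 3, 8, 9, 1, 2, 3, 8, 0, 1, 2, 3, 9, 8, 1],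
    [3, 8, 9, 4, 2, 3, 8, 4, 5, 2, 3, 4, 1, 2, 3, 8, 9, 8, 6, 5, 3, 4, 1, 2, 3, 8, 0, 1, 2, 3, 4, 5, 6, 9, 8, 1, 2, 3, 4, 5, 8, 9, 2, 3, 8, 0, 1, 2, 3, 4, 9, 8, 3, 9, 8, 9],
    [3, 4, 2, 3, 8, 9, 3, 4, 2, 3, 8, 6, 7, 5, 6, 3, 4, 5, 2, 3, 4, 1, 2, 3, 8, 9, 4, 5, 3, 4, 1, 2, 3, 8, 0, 1, 2, 3, 4, 5, 6, 7, 3, 8, 9, 8, 3, 4, 1, 2, 3, 8, 4, 5, 6, 3, 4, 5, 2, 3, 4, 1, 2, 3, 8, 9, 3, 4, 1, 2, 3, 8, 0, 1, 2, 3, 4, 5, 6, 8, 4, 5, 3, 4, 2, 3, 8, 9, 8, 3, 4, 2, 3, 8, 0, 1, 2, 3, 4, 5, 8, 3, 4, 2, 3, 8, 9, 4, 1, 2, 3, 8, 0, 1, 2, 3, 4, 8, 9, 1, 2, 3, 8, 0, 1, 2, 3, 9, 8, 9, 0],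
    [8, 3, 4, 2, 3, 8, 9, 8, 7, 6, 4, 5, 2, 3, 4, 1, 2, 3, 8, 0, 1, 2, 3, 4, 5, 6, 7, 5, 4, 3, 8, 5, 2, 3, 4, 0, 1, 2, 3, 8, 9, 4, 5, 2, 3, 4, 1, 2, 3, 8, 0, 1, 2, 3, 4, 5, 6, 1, 2, 3, 8, 4, 5, 3, 4, 2, 3, 8, 9, 8, 3, 4, 2, 3, 8, 0, 1, 2, 3, 4, 5, 2, 3, 4, 1, 2, 3, 8, 9, 8, 3, 4, 2, 3, 8, 0, 1, 2, 3, 4, 8, 3, 9, 8, 0, 1, 0],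
    [9, 8, 3, 4, 5, 2, 3, 4, 0, 1, 2, 3, 8, 9, 6, 5, 4, 3, 8, 0, 1, 2, 3, 4, 5, 6, 7, 6, 5, 4, 3, 8, 9, 4, 2, 3, 8, 4, 5, 6, 3, 4, 5, 2, 3, 4, 1, 2, 3, 8, 9, 8, 4, 5, 2, 3, 4, 1, 2, 3, 8, 0, 1, 2, 3, 4, 5, 6, 5, 4, 3, 8, 2, 3, 4, 5, 4, 2, 3, 8, 9, 4, 2, 3, 8, 1, 2, 3, 4, 3, 9, 8, 2, 1]]

/-- A representative. -/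
def rt0 : Rt := ⟨31670, [([7, 6, 5, 4, 3, 8, 9, 8, 6, 7, 5, 6, 4, 5, 2, 3, 4, 1, 2, 3, 8, 0, 1, 2, 3, 4, 5, 6, 7, 4, 3, 8, 2, 3, 4, 0, 1, 2, 3, 8, 9, 6, 3, 4, 5, 2, 3, 4, 1, 2, 3, 8, 0, 1, 2, 3, 4, 5, 6, 2, 3, 4, 0, 1, 2, 3, 8, 9, 8, 3, 4, 2, 3, 8, 1, 2, 3, 4, 5, 1, 2, 3, 8, 9, 4, 3, 8, 2, 3, 4, 9, 2, 3, 8, 1, 2, 3, 9, 8, 9, 0, 1], [9, 9, 9, 7, 3, 4, 2, 2, 2]),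
    ([8, 3, 4, 2, 3, 8, 9, 8, 7, 6, 4, 5, 2, 3, 4, 1, 2, 3, 8, 0, 1, 2, 3, 4, 5, 6, 7, 5, 4, 3, 8, 5, 2, 3, 4, 0, 1, 2, 3, 8, 9, 4, 5, 2, 3, 4, 1, 2, 3, 8, 0, 1, 2, 3, 4, 5, 6, 1, 2, 3, 8, 4, 5, 3, 4, 2, 3, 8, 9, 8, 3, 4, 2, 3, 8, 0, 1, 2, 3, 4, 5, 2, 3, 4, 1, 2, 3, 8, 9, 8, 3, 4, 2, 3, 8, 0, 1, 2, 3, 4, 8, 9, 3, 8, 0, 1, 2, 3, 2, 9, 0], [7, 6, 6, 9, 7, 1, 2, 3, 2, 4])], [114, 1256, 1535, 2067, 5992, 6036, 9345, 9507, 11291, 13076, 13729, 27001, 31505, 31661, 31670]⟩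

/-- A representative. -/
def rt1 : Rt := ⟨31502, [([7, 6, 5, 4, 0, 1, 2, 3, 8, 9, 5, 2, 3, 4, 1, 2, 3, 8, 0, 1, 2, 3, 4, 5, 6, 7, 2, 3, 8, 9, 6, 5, 2, 3, 4, 1, 2, 3, 8, 0, 1, 2, 3, 4, 5, 6, 5, 4, 3, 8, 2, 3, 4, 5, 3, 4, 2, 3, 8, 9, 4, 3, 8, 2, 3, 4, 1, 2, 3, 8, 0, 1, 2, 3, 4, 3, 8, 9, 2, 3, 8, 0, 1, 2, 3], [6, 8, 7, 9, 0, 0, 2, 4, 1]),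
    ([3, 8, 2, 3, 4, 1, 2, 3, 8, 9, 7, 6, 3, 4, 5, 2, 3, 4, 1, 2, 3, 8, 0, 1, 2, 3, 4, 5, 6, 7, 3, 8, 4, 5, 3, 4, 2, 3, 8, 9, 8, 6, 5, 2, 3, 4, 1, 2, 3, 8, 0, 1, 2, 3, 4, 5, 6, 2, 3, 8, 9, 4, 3, 8, 2, 3, 4, 1, 2, 3, 8, 0, 1, 2, 3, 4, 5, 4, 2, 3, 8, 1, 2, 3, 4, 3, 8, 0, 1, 2, 3, 9, 8, 1, 2, 9, 1], [6, 7, 5, 5, 6, 2, 0, 2, 1, 2])], [113, 114, 899, 1256, 2399, 6036, 7563, 9507, 9692, 11291, 13729, 13730, 25932, 31502, 31505]⟩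

/-- A representative. -/
def rt2 : Rt := ⟨31503, [([6, 0, 1, 2, 3, 8, 9, 4, 3, 8, 2, 3, 4, 1, 2, 3, 8, 0, 1, 2, 3, 4, 2, 3, 8, 9, 1, 2, 3, 8, 0, 1, 2, 3, 9, 8, 0, 1, 2, 9, 0, 1, 0], [5, 5, 7, 8, 1, 1, 3, 2]),
    ([1, 2, 3, 8, 7, 6, 4, 5, 3, 4, 0, 1, 2, 3, 8, 9, 5, 4, 1, 2, 3, 8, 0, 1, 2, 3, 4, 5, 6, 7, 3, 8, 6, 4, 5, 3, 4, 2, 3, 8, 9, 6, 5, 4, 2, 3, 8, 1, 2, 3, 4, 5, 6, 9, 8, 1, 2, 3, 4, 5, 8, 3, 4, 2, 3, 8, 0, 1, 2, 3, 4, 9, 3, 8, 0, 1, 2, 3, 8, 1, 2, 9, 0, 1], [6, 8, 7, 3, 4, 2, 0, 0]),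
    ([1, 2, 3, 8, 7, 6, 4, 5, 3, 4, 0, 1, 2, 3, 8, 9, 4, 5, 3, 4, 1, 2, 3, 8, 0, 1, 2, 3, 4, 5, 6, 7, 9, 8, 6, 5, 3, 4, 2, 3, 8, 9, 6, 5, 4, 1, 2, 3, 8, 0, 1, 2, 3, 4, 5, 6, 9, 8, 1, 2, 3, 4, 5, 3, 8, 9, 4, 3, 8, 0, 1, 2, 3, 4, 8, 3, 9, 8, 1, 2, 0, 1], [5, 7, 5, 9, 1, 2, 1, 3, 0, 0])], [114, 967, 1256, 1974, 2386, 3459, 6036, 6040, 9507, 11291, 13729, 14215, 20145, 31503, 31505]⟩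

/-- A representative. -/
def rt3 : Rt := ⟨31422, [([7, 6, 5, 4, 3, 8, 9, 4, 2, 3, 8, 1, 2, 3, 4, 5, 6, 7, 6, 5, 4, 3, 8, 9, 4, 3, 8, 5, 6, 4, 5, 3, 4, 2, 3, 8, 1, 2, 3, 4, 5, 6, 9, 8, 1, 2, 3, 4, 5, 1, 2, 3, 4, 9, 3, 8, 1, 2, 3, 8, 1], [7, 9, 6, 0, 4, 2, 0]),
    ([1, 2, 3, 8, 9, 4, 5, 6, 3, 4, 5, 2, 3, 4, 1, 2, 3, 8, 0, 1, 2, 3, 4, 5, 6, 7, 9, 2, 3, 8, 4, 5, 3, 4, 2, 3, 8, 9, 3, 8, 5, 6, 4, 5, 3, 4, 1, 2, 3, 8, 0, 1, 2, 3, 4, 5, 6, 9, 1, 2, 3, 8, 4, 5, 3, 4, 0, 1, 2, 3, 8, 9, 4, 1, 2, 3, 8, 0, 1, 2, 3, 4, 5, 9, 8, 3, 4, 2, 3, 8, 9, 4, 1, 2, 3, 8, 0, 1, 2, 3, 4, 8, 9, 3, 8, 1, 2, 3, 9, 8, 0], [6, 6, 7, 9, 3, 1, 2, 4, 0]),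
    ([9, 3, 8, 4, 5, 3, 4, 2, 3, 8, 9, 6, 5, 4, 1, 2, 3, 8, 0, 1, 2, 3, 4, 5, 6, 7, 1, 2, 3, 8, 4, 5, 3, 4, 1, 2, 3, 8, 9, 8, 3, 4, 2, 3, 8, 0, 1, 2, 3, 4, 5, 6, 9, 4, 5, 3, 4, 2, 3, 8, 1, 2, 3, 4, 5, 2, 3, 8, 9, 4, 3, 8, 2, 3, 4, 8, 1, 2, 3, 8, 2, 9, 0], [6, 8, 9, 3, 0, 2, 4, 3, 0])], [422, 463, 813, 1256, 3063, 3463, 4243, 6036, 6770, 6771, 7353, 27362, 31422, 31504, 31505]⟩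

/-- A representative. -/
def rt4 : Rt := ⟨11291, [([3, 8, 7, 6, 4, 5, 2, 3, 4, 0, 1, 2, 3, 8, 9, 4, 5, 3, 4, 1, 2, 3, 8, 0, 1, 2, 3, 4, 5, 6, 7, 8, 9, 4, 3, 8, 6, 4, 5, 2, 3, 4, 1, 2, 3, 8, 9, 6, 5, 4, 1, 2, 3, 8, 0, 1, 2, 3, 4, 5, 6, 9, 8, 1, 2, 3, 4, 5, 8, 2, 3, 4, 1, 2, 3, 8, 9, 2, 3, 4, 1, 2, 3, 8, 0, 1, 2, 3, 4, 8, 9, 3, 8, 2, 3, 9, 8, 2, 1], [7, 4, 2]),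
    ([7, 6, 5, 4, 3, 8, 9, 4, 2, 3, 8, 1, 2, 3, 4, 5, 6, 7, 3, 8, 9, 8, 3, 4, 2, 3, 8, 5, 6, 3, 4, 5, 2, 3, 4, 1, 2, 3, 8, 9, 8, 4, 5, 2, 3, 4, 1, 2, 3, 8, 0, 1, 2, 3, 4, 5, 6, 3, 8, 0, 1, 2, 3, 4, 5, 3, 8, 9, 1, 2, 3, 8, 0, 1, 2, 3, 4, 9, 8, 3, 8, 9, 1], [2, 2])], [114, 1256, 6036, 9507, 11291, 13729, 31505]⟩

/-- A representative. -/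
def rt5 : Rt := ⟨31421, [([9, 3, 8, 7, 6, 4, 5, 2, 3, 4, 0, 1, 2, 3, 8, 9, 5, 4, 1, 2, 3, 8, 0, 1, 2, 3, 4, 5, 6, 7, 3, 8, 6, 5, 2, 3, 4, 1, 2, 3, 8, 9, 8, 3, 4, 2, 3, 8, 1, 2, 3, 4, 5, 6, 3, 8, 5, 2, 3, 4, 1, 2, 3, 8, 9, 8, 3, 4, 2, 3, 8, 1, 2, 3, 4, 5, 4, 0, 1, 2, 3, 8, 9, 2, 3, 4, 1, 2, 3, 8, 0, 1, 2, 3, 4, 9, 3, 8, 0, 1, 2, 3, 8, 0, 1, 2], [7, 5, 7, 6, 5, 3, 2, 1, 4, 2]),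
    ([1, 2, 3, 8, 9, 4, 5, 6, 3, 4, 5, 2, 3, 4, 1, 2, 3, 8, 0, 1, 2, 3, 4, 5, 6, 7, 6, 5, 4, 3, 8, 2, 3, 4, 5, 6, 1, 2, 3, 4, 5, 0, 1, 2, 3, 4, 9, 8, 1, 2, 3, 1, 2, 1], [6, 6, 7, 8, 1, 0, 2, 2, 2])], [114, 570, 1256, 2196, 4087, 6033, 6036, 8230, 9328, 9507, 10444, 11291, 13729, 31421, 31505]⟩

/-- A representative. -/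
def rt6 : Rt := ⟨31657, [([3, 8, 9, 2, 3, 8, 7, 6, 4, 5, 3, 4, 2, 3, 8, 9, 7, 6, 5, 4, 1, 2, 3, 8, 0, 1, 2, 3, 4, 5, 6, 7, 3, 4, 5, 2, 3, 4, 0, 1, 2, 3, 8, 9, 8, 6, 5, 2, 3, 4, 1, 2, 3, 8, 0, 1, 2, 3, 4, 5, 6, 0, 1, 2, 3, 8, 9, 8, 5, 3, 4, 2, 3, 8, 0, 1, 2, 3, 4, 5, 2, 3, 8, 9, 3, 8, 2, 3, 4, 1, 2, 3, 8, 0, 1, 2, 3, 4, 3, 8, 9, 2, 3, 8, 1, 2, 3, 8, 0, 1, 2, 9, 1], [5, 6, 9, 7, 1, 2, 0, 2, 0, 1]),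
    ([1, 2, 3, 8, 6, 7, 5, 6, 4, 5, 3, 4, 2, 3, 8, 1, 2, 3, 4, 5, 6, 7, 3, 4, 1, 2, 3, 8, 5, 6, 4, 5, 3, 4, 2, 3, 8, 9, 3, 8, 6, 5, 2, 3, 4, 1, 2, 3, 8, 0, 1, 2, 3, 4, 5, 6, 9, 2, 3, 8, 4, 5, 3, 4, 2, 3, 8, 9, 1, 2, 3, 8, 0, 1, 2, 3, 4, 5, 9, 8, 3, 4, 2, 3, 8, 9, 1, 2, 3, 8, 0, 1, 2, 3, 4, 8, 1, 2, 3, 8, 2], [6, 5, 9, 7, 4, 2, 2, 1, 1])], [811, 1256, 6032, 6036, 8438, 31505, 31657]⟩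

/-- A representative. -/
def rt7 : Rt := ⟨31669, [([3, 4, 1, 2, 3, 8, 9, 6, 3, 4, 5, 2, 3, 4, 1, 2, 3, 8, 0, 1, 2, 3, 4, 5, 6, 5, 4, 3, 8, 2, 3, 4, 5, 9, 1, 2, 3, 8, 0, 1, 2, 3, 4, 3, 8, 2, 3, 1], [6, 9, 1, 4]),
    ([5, 6, 4, 5, 3, 4, 2, 3, 8, 9, 3, 4, 5, 2, 3, 4, 1, 2, 3, 8, 0, 1, 2, 3, 4, 5, 6, 7, 6, 5, 4, 3, 8, 9, 5, 2, 3, 4, 1, 2, 3, 8, 0, 1, 2, 3, 4, 5, 6, 4, 3, 8, 2, 3, 4, 5], [9, 0, 4, 0]),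
    ([4, 2, 3, 8, 9, 3, 8, 7, 6, 5, 2, 3, 4, 1, 2, 3, 8, 0, 1, 2, 3, 4, 5, 6, 7, 3, 8, 4, 5, 3, 4, 2, 3, 8, 9, 8, 6, 5, 2, 3, 4, 1, 2, 3, 8, 0, 1, 2, 3, 4, 5, 6, 2, 3, 8, 9, 4, 3, 8, 2, 3, 4, 1, 2, 3, 8, 0, 1, 2, 3, 4, 5, 0, 1, 2, 3, 8, 9, 8, 3, 4, 1, 2, 3, 8, 0, 1, 2, 3, 4, 9, 8, 2, 3, 2, 9, 1], [9, 3, 4, 0]),
    ([8, 9, 0, 1, 2, 3, 8, 6, 4, 5, 3, 4, 2, 3, 8, 9, 6, 5, 2, 3, 4, 1, 2, 3, 8, 0, 1, 2, 3, 4, 5, 6, 7, 6, 5, 3, 4, 1, 2, 3, 8, 9, 2, 3, 4, 1, 2, 3, 8, 0, 1, 2, 3, 4, 5, 6, 9, 0, 1, 2, 3, 8, 4, 5, 3, 4, 2, 3, 8, 9, 5, 4, 1, 2, 3, 8, 0, 1, 2, 3, 4, 5, 2, 3, 4, 1, 2, 3, 8, 0, 1, 2, 3, 4, 9, 8, 2, 0], [5, 6, 4, 2])],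 [1256, 5935, 6036, 7149, 24523, 31505, 31669]⟩

/-- The representatives. -/
def rts : List Rt := [rt0, rt1, rt2, rt3, rt4, rt5, rt6, rt7]

/-- A generator point. -/
def dv0 : Dv := ⟨0, [], [], [⟨114, [3, 8, 9, 4, 3, 8, 2, 3, 4, 5, 6, 7], [5, 4, 2, 3, 8, 9, 6, 5, 4, 3, 8, 2, 3, 4, 5, 6, 7, 6, 5, 4, 3, 8, 2, 3, 4, 5, 6, 9, 8, 3, 4, 5, 2]⟩,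
    ⟨1256, [4, 1, 2, 3, 8, 9, 4, 1, 2, 3, 8, 0, 1, 2, 3, 4, 5, 6, 7], [4, 5, 2, 3, 4, 0, 1, 2, 3, 8, 9, 6, 5, 4, 3, 8, 0, 1, 2, 3, 4, 5, 6, 7, 6, 5, 4, 3, 8, 2, 3, 4, 5, 6, 9, 8, 3, 4, 5, 1, 2, 3, 4, 0, 1, 2, 0]⟩,
    ⟨1535, [4, 0, 1, 2, 3, 8, 9, 4, 1, 2, 3, 8, 0, 1, 2, 3, 4, 5, 6, 7], [4, 5, 2, 3, 4, 1, 2, 3, 8, 9, 6, 5, 4, 3, 8, 0, 1, 2, 3, 4, 5, 6, 7, 6, 5, 4, 3, 8, 2, 3, 4, 5, 6, 9, 8, 3, 4, 5, 1, 2, 3, 4, 0, 1, 2]⟩,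
    ⟨2067, [3, 8, 9, 3, 8, 2, 3, 4, 1, 2, 3, 8, 0, 1, 2, 3, 4, 5, 6, 7], [3, 8, 9, 5, 6, 3, 4, 5, 2, 3, 4, 1, 2, 3, 8, 0, 1, 2, 3, 4, 5, 6, 7, 6, 5, 4, 3, 8, 2, 3, 4, 5, 6, 1, 2, 3, 4, 5, 9, 8, 0, 1, 2, 3, 8]⟩,
    ⟨5992, [3, 8, 9, 7, 6, 3, 4, 5, 2, 3, 4, 1, 2, 3, 8, 0, 1, 2, 3, 4, 5, 6, 7], [3, 8, 9, 3, 8, 5, 2, 3, 4, 1, 2, 3, 8, 0, 1, 2, 3, 4, 5, 6, 5, 4, 3, 8, 2, 3, 4, 5, 9, 1, 2, 3, 8, 0, 1, 2, 3, 9, 8]⟩,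
    ⟨6036, [8, 7, 6, 5, 2, 3, 4, 1, 2, 3, 8, 9, 8, 3, 4, 2, 3, 8, 1, 2, 3, 4, 5, 6, 7], [7, 6, 5, 4, 3, 8, 9, 4, 2, 3, 8, 1, 2, 3, 4, 5, 6, 7, 6, 5, 4, 3, 8, 9, 4, 3, 8, 5, 6, 4, 5, 3, 4, 2, 3, 8, 1, 2, 3, 4, 5, 6, 9, 8, 1, 2, 3, 4, 5, 1, 2, 3, 4, 9, 2, 3, 8, 1, 2, 3, 8, 9, 1]⟩,
    ⟨9345, [3, 4, 0, 1, 2, 3, 8, 9, 3, 8, 7, 6, 5, 2, 3, 4, 1, 2, 3, 8, 0, 1, 2, 3, 4, 5, 6, 7], [3, 4, 0, 1, 2, 3, 8, 9, 3, 4, 5, 2, 3, 4, 1, 2, 3, 8, 0, 1, 2, 3, 4, 5, 6, 5, 4, 3, 8, 2, 3, 4, 5, 9, 1, 2, 3, 8, 0, 1, 2, 3, 4, 3, 8, 2, 3, 1, 0]⟩,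
    ⟨9507, [5, 6, 4, 5, 3, 4, 2, 3, 8, 9, 3, 8, 6, 5, 2, 3, 4, 1, 2, 3, 8, 0, 1, 2, 3, 4, 5, 6, 7], [5, 6, 4, 5, 3, 4, 2, 3, 8, 9, 3, 4, 5, 2, 3, 4, 1, 2, 3, 8, 0, 1, 2, 3, 4, 5, 6, 7, 6, 5, 4, 3, 8, 9, 2, 3, 4, 1, 2, 3, 8, 0, 1, 2, 3, 4, 5, 6, 4, 3, 8, 2, 3, 4, 5]⟩,
    ⟨11291, [5, 4, 3, 8, 2, 3, 4, 1, 2, 3, 8, 7, 5, 6, 4, 5, 3, 4, 2, 3, 8, 1, 2, 3, 4, 5, 6, 7], [6]⟩,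
    ⟨13076, [8, 7, 6, 5, 2, 3, 4, 0, 1, 2, 3, 8, 9, 8, 3, 4, 2, 3, 8, 1, 2, 3, 4, 5, 6, 7], [7, 6, 5, 4, 3, 8, 9, 4, 2, 3, 8, 0, 1, 2, 3, 4, 5, 6, 7, 6, 5, 4, 3, 8, 9, 4, 3, 8, 5, 6, 4, 5, 3, 4, 2, 3, 8, 1, 2, 3, 4, 5, 6, 9, 8, 1, 2, 3, 4, 5, 1, 2, 3, 4, 9, 2, 3, 8, 1, 2, 3, 8, 9, 1, 0]⟩,
    ⟨13729, [3, 4, 1, 2, 3, 8, 9, 3, 8, 7, 6, 5, 2, 3, 4, 1, 2, 3, 8, 0, 1, 2, 3, 4, 5, 6, 7], [3, 4, 1, 2, 3, 8, 9, 3, 4, 5, 2, 3, 4, 1, 2, 3, 8, 0, 1, 2, 3, 4, 5, 6, 5, 4, 3, 8, 2, 3, 4, 5, 9, 1, 2, 3, 8, 0, 1, 2, 3, 4, 3, 8, 2, 3, 1]⟩,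
    ⟨27001, [8, 9, 2, 3, 8, 5, 6, 4, 5, 3, 4, 2, 3, 8, 9, 6, 5, 4, 1, 2, 3, 8, 0, 1, 2, 3, 4, 5, 6, 7], [8, 9, 2, 3, 8, 7, 6, 4, 5, 3, 4, 2, 3, 8, 9, 3, 4, 5, 2, 3, 4, 1, 2, 3, 8, 0, 1, 2, 3, 4, 5, 6, 7, 6, 5, 4, 3, 8, 9, 8, 5, 6, 4, 5, 2, 3, 4, 1, 2, 3, 8, 0, 1, 2, 3, 4, 5, 6, 2, 3, 8, 9, 4, 3, 8, 2, 3, 4, 1, 2, 3, 8, 0, 1, 2, 3, 4, 5, 8, 3, 4, 0, 1, 2, 3, 8, 9, 4, 1, 2, 3, 8, 0, 1, 2, 3, 4, 2, 3, 0, 1, 0]⟩,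
    ⟨31505, [4, 3, 8, 9, 5, 4, 3, 8, 6, 7, 5, 6, 4, 5, 3, 4, 2, 3, 8, 1, 2, 3, 4, 5, 6, 7], [0, 1, 2, 3, 8, 9, 4, 3, 8, 2, 3, 4, 1, 2, 3, 8, 0, 1, 2, 3, 4, 2, 3, 8, 9, 1, 2, 3, 8, 0, 1, 2, 3, 9, 8, 0, 1, 2, 9, 0, 1, 0]⟩,
    ⟨31661, [4, 3, 8, 9, 5, 4, 3, 8, 6, 7, 5, 6, 4, 5, 3, 4, 2, 3, 8, 0, 1, 2, 3, 4, 5, 6, 7], [1, 2, 3, 8, 9, 4, 3, 8, 2, 3, 4, 1, 2, 3, 8, 0, 1, 2, 3, 4, 2, 3, 8, 9, 1, 2, 3, 8, 0, 1, 2, 3, 9, 8, 0, 1, 2, 9, 0, 1]⟩,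
    ⟨31670, [1, 2, 3, 8, 4, 5, 3, 4, 2, 3, 8, 6, 7, 5, 6, 4, 5, 3, 4, 2, 3, 8, 0, 1, 2, 3, 4, 5, 6, 7], [0]⟩]⟩

/-- A generator point. -/
def dv1 : Dv := ⟨1, [], [], [⟨113, [3, 8, 9, 4, 3, 8, 1, 2, 3, 4, 5, 6, 7], [5, 4, 1, 2, 3, 8, 9, 6, 5, 4, 3, 8, 2, 3, 4, 5, 6, 7, 6, 5, 4, 3, 8, 2, 3, 4, 5, 6, 9, 8, 3, 4, 5, 2, 1]⟩,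
    ⟨114, [3, 8, 9, 4, 3, 8, 2, 3, 4, 5, 6, 7], [5, 4, 2, 3, 8, 9, 6, 5, 4, 3, 8, 2, 3, 4, 5, 6, 7, 6, 5, 4, 3, 8, 2, 3, 4, 5, 6, 9, 8, 3, 4, 5, 2]⟩,
    ⟨899, [4, 2, 3, 8, 9, 4, 1, 2, 3, 8, 0, 1, 2, 3, 4, 5, 6, 7], [4, 2, 3, 8, 9, 3, 8, 5, 6, 4, 5, 3, 4, 1, 2, 3, 8, 0, 1, 2, 3, 4, 5, 6, 7, 6, 5, 4, 3, 8, 2, 3, 4, 5, 6, 1, 2, 3, 4, 5, 9, 8, 3, 4, 9, 8, 0, 1, 2]⟩,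
    ⟨1256, [4, 1, 2, 3, 8, 9, 4, 1, 2, 3, 8, 0, 1, 2, 3, 4, 5, 6, 7], [4, 5, 2, 3, 4, 0, 1, 2, 3, 8, 9, 6, 5, 4, 3, 8, 0, 1, 2, 3, 4, 5, 6, 7, 6, 5, 4, 3, 8, 2, 3, 4, 5, 6, 9, 8, 3, 4, 5, 1, 2, 3, 4, 0, 1, 2, 0]⟩,
    ⟨2399, [8, 9, 4, 3, 8, 2, 3, 4, 1, 2, 3, 8, 0, 1, 2, 3, 4, 5, 6, 7], [8, 9, 4, 5, 6, 3, 4, 5, 2, 3, 4, 1, 2, 3, 8, 0, 1, 2, 3, 4, 5, 6, 7, 6, 5, 4, 3, 8, 2, 3, 4, 5, 6, 1, 2, 3, 4, 5, 0, 1, 2, 3, 4, 9, 8]⟩,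
    ⟨6036, [8, 7, 6, 5, 2, 3, 4, 1, 2, 3, 8, 9, 8, 3, 4, 2, 3, 8, 1, 2, 3, 4, 5, 6, 7], [7, 6, 5, 4, 3, 8, 9, 4, 2, 3, 8, 1, 2, 3, 4, 5, 6, 7, 6, 5, 4, 3, 8, 9, 4, 3, 8, 5, 6, 4, 5, 3, 4, 2, 3, 8, 1, 2, 3, 4, 5, 6, 9, 8, 1, 2, 3, 4, 5, 1, 2, 3, 4, 9, 2, 3, 8, 1, 2, 3, 8, 9, 1]⟩,
    ⟨7563, [3, 4, 2, 3, 8, 9, 4, 3, 8, 5, 6, 4, 5, 3, 4, 1, 2, 3, 8, 0, 1, 2, 3, 4, 5, 6, 7], [3, 4, 2, 3, 8, 9, 1, 2, 3, 8, 0, 1, 2, 3, 4, 5, 6, 7, 6, 5, 4, 3, 8, 9, 2, 3, 8, 1, 2, 3, 4, 0, 1, 2, 3]⟩,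
    ⟨9507, [5, 6, 4, 5, 3, 4, 2, 3, 8, 9, 3, 8, 6, 5, 2, 3, 4, 1, 2, 3, 8, 0, 1, 2, 3, 4, 5, 6, 7], [5, 6, 4, 5, 3, 4, 2, 3, 8, 9, 3, 4, 5, 2, 3, 4, 1, 2, 3, 8, 0, 1, 2, 3, 4, 5, 6, 7, 6, 5, 4, 3, 8, 9, 2, 3, 4, 1, 2, 3, 8, 0, 1, 2, 3, 4, 5, 6, 4, 3, 8, 2, 3, 4, 5]⟩,
    ⟨9692, [5, 6, 4, 5, 3, 4, 1, 2, 3, 8, 9, 3, 8, 6, 5, 2, 3, 4, 1, 2, 3, 8, 0, 1, 2, 3, 4, 5, 6, 7], [7, 6, 4, 5, 2, 3, 4, 0, 1, 2, 3, 8, 9, 5, 4, 1, 2, 3, 8, 0, 1, 2, 3, 4, 5, 6, 7, 6, 5, 4, 3, 8, 9, 4, 3, 8, 5, 6, 4, 5, 3, 4, 2, 3, 8, 1, 2, 3, 4, 5, 6, 9, 8, 1, 2, 3, 4, 5, 9, 2, 3, 4, 1, 2, 3, 8, 0, 1, 2, 3, 4, 0, 1, 2, 3, 0, 1, 2, 9, 1, 0]⟩,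
    ⟨11291, [5, 4, 3, 8, 2, 3, 4, 1, 2, 3, 8, 7, 5, 6, 4, 5, 3, 4, 2, 3, 8, 1, 2, 3, 4, 5, 6, 7], [6]⟩,
    ⟨13729, [3, 4, 1, 2, 3, 8, 9, 3, 8, 7, 6, 5, 2, 3, 4, 1, 2, 3, 8, 0, 1, 2, 3, 4, 5, 6, 7], [3, 4, 1, 2, 3, 8, 9, 3, 4, 5, 2, 3, 4, 1, 2, 3, 8, 0, 1, 2, 3, 4, 5, 6, 5, 4, 3, 8, 2, 3, 4, 5, 9, 1, 2, 3, 8, 0, 1, 2, 3, 4, 3, 8, 2, 3, 1]⟩,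
    ⟨13730, [3, 4, 2, 3, 8, 9, 3, 8, 7, 6, 5, 2, 3, 4, 1, 2, 3, 8, 0, 1, 2, 3, 4, 5, 6, 7], [3, 4, 2, 3, 8, 9, 3, 4, 5, 2, 3, 4, 1, 2, 3, 8, 0, 1, 2, 3, 4, 5, 6, 5, 4, 3, 8, 2, 3, 4, 5, 9, 1, 2, 3, 8, 0, 1, 2, 3, 4, 3, 8, 2, 3]⟩,
    ⟨25932, [8, 9, 0, 1, 2, 3, 8, 5, 6, 4, 5, 3, 4, 2, 3, 8, 9, 6, 5, 4, 1, 2, 3, 8, 0, 1, 2, 3, 4, 5, 6, 7], [8, 9, 0, 1, 2, 3, 8, 7, 6, 4, 5, 3, 4, 2, 3, 8, 9, 3, 4, 5, 2, 3, 4, 1, 2, 3, 8, 0, 1, 2, 3, 4, 5, 6, 7, 6, 5, 4, 3, 8, 9, 8, 5, 6, 4, 5, 2, 3, 4, 1, 2, 3, 8, 0, 1, 2, 3, 4, 5, 6, 2, 3, 8, 9, 4, 3, 8, 2, 3, 4, 1, 2, 3, 8, 0, 1, 2, 3, 4, 5, 8, 3, 4, 0, 1, 2, 3, 8, 9, 4, 1, 2, 3, 8, 0, 1,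 2, 3, 4, 2, 3, 1]⟩,
    ⟨31502, [2, 3, 8, 4, 5, 3, 4, 2, 3, 8, 6, 7, 5, 6, 4, 5, 3, 4, 2, 3, 8, 1, 2, 3, 4, 5, 6, 7], [1]⟩,
    ⟨31505, [4, 3, 8, 9, 5, 4, 3, 8, 6, 7, 5, 6, 4, 5, 3, 4, 2, 3, 8, 1, 2, 3, 4, 5, 6, 7], [0, 1, 2, 3, 8, 9, 4, 3, 8, 2, 3, 4, 1, 2, 3, 8, 0, 1, 2, 3, 4, 2, 3, 8, 9, 1, 2, 3, 8, 0, 1, 2, 3, 9, 8, 0, 1, 2, 9, 0, 1, 0]⟩]⟩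

/-- A generator point. -/
def dv2 : Dv := ⟨2, [], [], [⟨114, [3, 8, 9, 4, 3, 8, 2, 3, 4, 5, 6, 7], [5, 4, 2, 3, 8, 9, 6, 5, 4, 3, 8, 2, 3, 4, 5, 6, 7, 6, 5, 4, 3, 8, 2, 3, 4, 5, 6, 9, 8, 3, 4, 5, 2]⟩,
    ⟨967, [2, 3, 8, 9, 4, 3, 8, 2, 3, 4, 5, 6, 7], [5, 4, 3, 8, 9, 6, 5, 4, 3, 8, 2, 3, 4, 5, 6, 7, 6, 5, 4, 3, 8, 2, 3, 4, 5, 6, 9, 8, 3, 4, 5]⟩,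
    ⟨1256, [4, 1, 2, 3, 8, 9, 4, 1, 2, 3, 8, 0, 1, 2, 3, 4, 5, 6, 7], [4, 5, 2, 3, 4, 0, 1, 2, 3, 8, 9, 6, 5, 4, 3, 8, 0, 1, 2, 3, 4, 5, 6, 7, 6, 5, 4, 3, 8, 2, 3, 4, 5, 6, 9, 8, 3, 4, 5, 1, 2, 3, 4, 0, 1, 2, 0]⟩,
    ⟨1974, [4, 1, 2, 3, 8, 9, 4, 2, 3, 8, 0, 1, 2, 3, 4, 5, 6, 7], [4, 5, 3, 4, 0, 1, 2, 3, 8, 9, 6, 5, 4, 3, 8, 0, 1, 2, 3, 4, 5, 6, 7, 6, 5, 4, 3, 8, 2, 3, 4, 5, 6, 9, 8, 3, 4, 5, 1, 2, 3, 4, 0, 1, 0]⟩,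
    ⟨2386, [4, 0, 1, 2, 3, 8, 9, 3, 8, 2, 3, 4, 1, 2, 3, 8, 0, 1, 2, 3, 4, 5, 6, 7], [4, 0, 1, 2, 3, 8, 9, 5, 6, 3, 4, 5, 2, 3, 4, 1, 2, 3, 8, 0, 1, 2, 3, 4, 5, 6, 7, 6, 5, 4, 3, 8, 2, 3, 4, 5, 6, 1, 2, 3, 4, 5, 9, 8, 0, 1, 2, 3, 4, 8, 2, 1, 0]⟩,
    ⟨3459, [5, 3, 4, 2, 3, 8, 9, 6, 5, 4, 3, 8, 1, 2, 3, 4, 5, 6, 7], [1, 2, 3, 8, 9, 4, 2, 3, 8, 1, 2, 3, 4, 5, 6, 7, 6, 5, 4, 3, 8, 2, 3, 4, 9, 8, 1, 2, 3, 2, 1]⟩,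
    ⟨6036, [8, 7, 6, 5, 2, 3, 4, 1, 2, 3, 8, 9, 8, 3, 4, 2, 3, 8, 1, 2, 3, 4, 5, 6, 7], [7, 6, 5, 4, 3, 8, 9, 4, 2, 3, 8, 1, 2, 3, 4, 5, 6, 7, 6, 5, 4, 3, 8, 9, 4, 3, 8, 5, 6, 4, 5, 3, 4, 2, 3, 8, 1, 2, 3, 4, 5, 6, 9, 8, 1, 2, 3, 4, 5, 1, 2, 3, 4, 9, 2, 3, 8, 1, 2, 3, 8, 9, 1]⟩,
    ⟨6040, [8, 7, 6, 5, 3, 4, 1, 2, 3, 8, 9, 8, 3, 4, 2, 3, 8, 1, 2, 3, 4, 5, 6, 7], [7, 6, 5, 4, 2, 3, 8, 9, 4, 2, 3, 8, 1, 2, 3, 4, 5, 6, 7, 6, 5, 4, 3, 8, 9, 4, 3, 8, 5, 6, 4, 5, 3, 4, 2, 3, 8, 1, 2, 3, 4, 5, 6, 9, 8, 1, 2, 3, 4, 5, 1, 2, 3, 4, 9, 2, 3, 8, 1, 2, 3, 8, 1, 2, 9]⟩,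
    ⟨9507, [5, 6, 4, 5, 3, 4, 2, 3, 8, 9, 3, 8, 6, 5, 2, 3, 4, 1, 2, 3, 8, 0, 1, 2, 3, 4, 5, 6, 7], [5, 6, 4, 5, 3, 4, 2, 3, 8, 9, 3, 4, 5, 2, 3, 4, 1, 2, 3, 8, 0, 1, 2, 3, 4, 5, 6, 7, 6, 5, 4, 3, 8, 9, 2, 3, 4, 1, 2, 3, 8, 0, 1, 2, 3, 4, 5, 6, 4, 3, 8, 2, 3, 4, 5]⟩,
    ⟨11291, [5, 4, 3, 8, 2, 3, 4, 1, 2, 3, 8, 7, 5, 6, 4, 5, 3, 4, 2, 3, 8, 1, 2, 3, 4, 5, 6, 7], [6]⟩,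
    ⟨13729, [3, 4, 1, 2, 3, 8, 9, 3, 8, 7, 6, 5, 2, 3, 4, 1, 2, 3, 8, 0, 1, 2, 3, 4, 5, 6, 7], [3, 4, 1, 2, 3, 8, 9, 3, 4, 5, 2, 3, 4, 1, 2, 3, 8, 0, 1, 2, 3, 4, 5, 6, 5, 4, 3, 8, 2, 3, 4, 5, 9, 1, 2, 3, 8, 0, 1, 2, 3, 4, 3, 8, 2, 3, 1]⟩,
    ⟨14215, [2, 3, 4, 1, 2, 3, 8, 9, 3, 8, 7, 6, 5, 2, 3, 4, 1, 2, 3, 8, 0, 1, 2, 3, 4, 5, 6, 7], [2, 3, 4, 1, 2, 3, 8, 9, 3, 4, 5, 2, 3, 4, 1, 2, 3, 8, 0, 1, 2, 3, 4, 5, 6, 5, 4, 3, 8, 2, 3, 4, 5, 9, 1, 2, 3, 8, 0, 1, 2, 3, 4, 3, 8, 2, 3, 1, 2]⟩,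
    ⟨20145, [8, 9, 1, 2, 3, 8, 7, 6, 4, 5, 3, 4, 0, 1, 2, 3, 8, 9, 4, 5, 3, 4, 1, 2, 3, 8, 0, 1, 2, 3, 4, 5, 6, 7], [8, 9, 1, 2, 3, 8, 4, 5, 6, 3, 4, 5, 2, 3, 4, 1, 2, 3, 8, 9, 3, 4, 2, 3, 8, 0, 1, 2, 3, 4, 5, 6, 7, 6, 5, 4, 3, 8, 9, 2, 3, 8, 1, 2, 3, 4, 5, 6, 3, 8, 2, 3, 4, 5, 0, 1, 2, 3, 4, 8, 3, 9, 8, 2, 1]⟩,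
    ⟨31503, [3, 8, 4, 5, 3, 4, 1, 2, 3, 8, 6, 7, 5, 6, 4, 5, 3, 4, 2, 3, 8, 1, 2, 3, 4, 5, 6, 7], [2]⟩,
    ⟨31505, [4, 3, 8, 9, 5, 4, 3, 8, 6, 7, 5, 6, 4, 5, 3, 4, 2, 3, 8, 1, 2, 3, 4, 5, 6, 7], [0, 1, 2, 3, 8, 9, 4, 3, 8, 2, 3, 4, 1, 2, 3, 8, 0, 1, 2, 3, 4, 2, 3, 8, 9, 1, 2, 3, 8, 0, 1, 2, 3, 9, 8, 0, 1, 2, 9, 0, 1, 0]⟩]⟩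

/-- A generator point. -/
def dv3 : Dv := ⟨2, [4, 3, 8, 7, 6, 3, 4, 5, 2, 3, 4, 1, 2, 3, 8, 9, 8, 4, 5, 2, 3, 4, 1, 2, 3, 8, 0, 1, 2, 3, 4, 5, 6, 7, 9, 2, 3, 8, 5, 1, 2, 3, 4, 0, 1, 2, 3, 8, 9, 6, 4, 5, 2, 3, 4, 1, 2, 3, 8, 0, 1, 2, 3, 4, 5, 6, 2, 3, 8, 9, 4, 3, 8, 2, 3, 4, 1, 2, 3, 8, 0, 1, 2, 3, 4, 5, 8, 3, 4, 0, 1, 2, 3, 8, 9, 4, 1, 2, 3, 8, 0, 1, 2, 3, 4, 1, 2, 3, 8, 0, 1, 2, 3, 8, 2, 9], [4, 3, 1, 3, 0], [⟨114, [3, 8, 9, 4, 3, 8, 2, 3, 4, 5, 6, 7], [5, 4, 2, 3, 8, 9, 6, 5, 4, 3, 8, 2, 3, 4, 5, 6, 7, 6, 5, 4, 3, 8, 2, 3, 4, 5, 6, 9, 8, 3, 4, 5, 2]⟩,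
    ⟨115, [8, 9, 4, 3, 8, 2, 3, 4, 5, 6, 7], [5, 3, 4, 2, 3, 8, 9, 6, 5, 4, 3, 8, 2, 3, 4, 5, 6, 7, 6, 5, 4, 3, 8, 2, 3, 4, 5, 6, 9, 8, 3, 4, 5, 2, 3]⟩,
    ⟨1256, [4, 1, 2, 3, 8, 9, 4, 1, 2, 3, 8, 0, 1, 2, 3, 4, 5, 6, 7], [4, 5, 2, 3, 4, 0, 1, 2, 3, 8, 9, 6, 5, 4, 3, 8, 0, 1, 2, 3, 4, 5, 6, 7, 6, 5, 4, 3, 8, 2, 3, 4, 5, 6, 9, 8, 3, 4, 5, 1, 2, 3, 4, 0, 1, 2, 0]⟩,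
    ⟨1255, [3, 4, 1, 2, 3, 8, 9, 4, 1, 2, 3, 8, 0, 1, 2, 3, 4, 5, 6, 7], [3, 4, 5, 2, 3, 4, 0, 1, 2, 3, 8, 9, 6, 5, 4, 3, 8, 0, 1, 2, 3, 4, 5, 6, 7, 6, 5, 4, 3, 8, 2, 3, 4, 5, 6, 9, 8, 3, 4, 5, 1, 2, 3, 4, 0, 1, 2, 3, 0]⟩,
    ⟨2385, [8, 3, 4, 1, 2, 3, 8, 9, 8, 3, 4, 2, 3, 8, 0, 1, 2, 3, 4, 5, 6, 7], [8, 3, 4, 1, 2, 3, 8, 9, 5, 6, 4, 5, 3, 4, 2, 3, 8, 0, 1, 2, 3, 4, 5, 6, 7, 6, 5, 4, 3, 8, 2, 3, 4, 5, 6, 1, 2, 3, 4, 5, 9, 8, 3, 4, 2, 3, 8, 0, 1]⟩,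
    ⟨3467, [5, 4, 3, 8, 9, 6, 5, 4, 3, 8, 1, 2, 3, 4, 5, 6, 7], [1, 2, 3, 8, 9, 4, 3, 8, 2, 3, 4, 5, 6, 7, 6, 5, 4, 3, 8, 2, 3, 4, 9, 8, 3, 2, 1]⟩,
    ⟨6036, [8, 7, 6, 5, 2, 3, 4, 1, 2, 3, 8, 9, 8, 3, 4, 2, 3, 8, 1, 2, 3, 4, 5, 6, 7], [7, 6, 5, 4, 3, 8, 9, 4, 2, 3, 8, 1, 2, 3, 4, 5, 6, 7, 6, 5, 4, 3, 8, 9, 4, 3, 8, 5, 6, 4, 5, 3, 4, 2, 3, 8, 1, 2, 3, 4, 5, 6, 9, 8, 1, 2, 3, 4, 5, 1, 2, 3, 4, 9, 2, 3, 8, 1, 2, 3, 8, 9, 1]⟩,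
    ⟨6038, [3, 8, 7, 6, 5, 2, 3, 4, 1, 2, 3, 8, 9, 8, 3, 4, 2, 3, 8, 1, 2, 3, 4, 5, 6, 7], [7, 6, 5, 4, 3, 8, 9, 2, 3, 8, 1, 2, 3, 4, 5, 6, 7, 6, 5, 4, 3, 8, 9, 4, 3, 8, 5, 6, 4, 5, 3, 4, 2, 3, 8, 1, 2, 3, 4, 5, 6, 9, 8, 1, 2, 3, 4, 5, 1, 2, 3, 4, 1, 2, 3, 9, 8, 1, 2, 9, 1]⟩,
    ⟨9507, [5, 6, 4, 5, 3, 4, 2, 3, 8, 9, 3, 8, 6, 5, 2, 3, 4, 1, 2, 3, 8, 0, 1, 2, 3, 4, 5, 6, 7], [5, 6, 4, 5, 3, 4, 2, 3, 8, 9, 3, 4, 5, 2, 3, 4, 1, 2, 3, 8, 0, 1, 2, 3, 4, 5, 6, 7, 6, 5, 4, 3, 8, 9, 2, 3, 4, 1, 2, 3, 8, 0, 1, 2, 3, 4, 5, 6, 4, 3, 8, 2, 3, 4, 5]⟩,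
    ⟨11291, [5, 4, 3, 8, 2, 3, 4, 1, 2, 3, 8, 7, 5, 6, 4, 5, 3, 4, 2, 3, 8, 1, 2, 3, 4, 5, 6, 7], [6]⟩,
    ⟨13729, [3, 4, 1, 2, 3, 8, 9, 3, 8, 7, 6, 5, 2, 3, 4, 1, 2, 3, 8, 0, 1, 2, 3, 4, 5, 6, 7], [3, 4, 1, 2, 3, 8, 9, 3, 4, 5, 2, 3, 4, 1, 2, 3, 8, 0, 1, 2, 3, 4, 5, 6, 5, 4, 3, 8, 2, 3, 4, 5, 9, 1, 2, 3, 8, 0, 1, 2, 3, 4, 3, 8, 2, 3, 1]⟩,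
    ⟨13073, [4, 1, 2, 3, 8, 9, 3, 8, 7, 6, 5, 2, 3, 4, 1, 2, 3, 8, 0, 1, 2, 3, 4, 5, 6, 7], [4, 1, 2, 3, 8, 9, 3, 4, 5, 2, 3, 4, 1, 2, 3, 8, 0, 1, 2, 3, 4, 5, 6, 5, 4, 3, 8, 2, 3, 4, 5, 9, 1, 2, 3, 8, 0, 1, 2, 3, 4, 3, 8, 2, 1]⟩,
    ⟨16951, [0, 1, 2, 3, 8, 9, 4, 3, 8, 7, 6, 5, 2, 3, 4, 1, 2, 3, 8, 9, 5, 2, 3, 4, 1, 2, 3, 8, 0, 1, 2, 3, 4, 5, 6, 7], [2, 3, 8, 9, 1, 2, 3, 8, 4, 5, 6, 3, 4, 5, 2, 3, 4, 1, 2, 3, 8, 9, 3, 4, 2, 3, 8, 0, 1, 2, 3, 4, 5, 6, 7, 6, 5, 4, 3, 8, 9, 2, 3, 8, 1, 2, 3, 4, 5, 6, 3, 8, 2, 3, 4, 5, 0, 1, 2, 3, 4, 8, 9, 3, 8, 2, 3, 1, 2]⟩,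
    ⟨31510, [8, 4, 5, 2, 3, 4, 1, 2, 3, 8, 6, 7, 5, 6, 4, 5, 3, 4, 2, 3, 8, 1, 2, 3, 4, 5, 6, 7], [3]⟩,
    ⟨31505, [4, 3, 8, 9, 5, 4, 3, 8, 6, 7, 5, 6, 4, 5, 3, 4, 2, 3, 8, 1, 2, 3, 4, 5, 6, 7], [0, 1, 2, 3, 8, 9, 4, 3, 8, 2, 3, 4, 1, 2, 3, 8, 0, 1, 2, 3, 4, 2, 3, 8, 9, 1, 2, 3, 8, 0, 1, 2, 3, 9, 8, 0, 1, 2, 9, 0, 1, 0]⟩]⟩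

/-- A generator point. -/
def dv4 : Dv := ⟨0, [9, 3, 8, 6, 4, 5, 3, 4, 0, 1, 2, 3, 8, 9, 8, 6, 5, 3, 4, 1, 2, 3, 8, 0, 1, 2, 3, 4, 5, 6, 7, 1, 2, 3, 8, 4, 5, 2, 3, 4, 1, 2, 3, 8, 9, 2, 3, 4, 1, 2, 3, 8, 0, 1, 2, 3, 4, 5, 6, 3, 8, 9, 3, 8, 5, 2, 3, 4, 1, 2, 3, 8, 0, 1, 2, 3, 4, 5, 4, 3, 8, 9, 8, 3, 4, 1, 2, 3, 8, 0, 1, 2, 3, 4, 8, 9, 3, 8, 0, 1, 2, 3, 0], [3, 4, 0, 2], [⟨11291, [5, 4, 3, 8, 2, 3, 4, 1, 2, 3, 8, 7, 5, 6, 4, 5, 3, 4, 2, 3, 8, 1, 2, 3, 4, 5, 6, 7], [6]⟩,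
    ⟨1256, [4, 1, 2, 3, 8, 9, 4, 1, 2, 3, 8, 0, 1, 2, 3, 4, 5, 6, 7], [4, 5, 2, 3, 4, 0, 1, 2, 3, 8, 9, 6, 5, 4, 3, 8, 0, 1, 2, 3, 4, 5, 6, 7, 6, 5, 4, 3, 8, 2, 3, 4, 5, 6, 9, 8, 3, 4, 5, 1, 2, 3, 4, 0, 1, 2, 0]⟩,
    ⟨193, [1, 2, 3, 8, 9, 4, 1, 2, 3, 8, 0, 1, 2, 3, 4, 5, 6, 7], [5, 2, 3, 4, 0, 1, 2, 3, 8, 9, 6, 5, 4, 3, 8, 0, 1, 2, 3, 4, 5, 6, 7, 6, 5, 4, 3, 8, 2, 3, 4, 5, 6, 9, 8, 3, 4, 5, 1, 2, 3, 0, 1, 2, 0]⟩,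
    ⟨1088, [8, 3, 4, 0, 1, 2, 3, 8, 9, 8, 3, 4, 2, 3, 8, 1, 2, 3, 4, 5, 6, 7], [8, 9, 3, 8, 4, 5, 3, 4, 2, 3, 8, 9, 6, 5, 4, 3, 8, 0, 1, 2, 3, 4, 5, 6, 7, 6, 5, 4, 3, 8, 2, 3, 4, 5, 6, 9, 8, 3, 4, 5, 1, 2, 3, 4, 8, 3, 9, 8, 0]⟩,
    ⟨17421, [1, 2, 3, 8, 9, 4, 3, 8, 5, 6, 4, 5, 2, 3, 4, 1, 2, 3, 8, 9, 5, 4, 1, 2, 3, 8, 0, 1, 2, 3, 4, 5, 6, 7], [8, 9, 0, 1, 2, 3, 8, 7, 6, 4, 5, 3, 4, 0, 1, 2, 3, 8, 9, 4, 5, 3, 4, 1, 2, 3, 8, 0, 1, 2, 3, 4, 5, 6, 7, 6, 5, 4, 3, 8, 9, 4, 3, 8, 5, 6, 4, 5, 3, 4, 2, 3, 8, 1, 2, 3, 4, 5, 6, 9, 8, 1, 2, 3, 4, 5, 3, 4, 1, 2, 3, 8, 9, 4, 1, 2, 3, 8, 0, 1, 2, 3, 4, 9, 3, 8, 2, 3, 9, 8, 0, 1, 2, 9,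 0, 1, 0]⟩,
    ⟨6036, [8, 7, 6, 5, 2, 3, 4, 1, 2, 3, 8, 9, 8, 3, 4, 2, 3, 8, 1, 2, 3, 4, 5, 6, 7], [7, 6, 5, 4, 3, 8, 9, 4, 2, 3, 8, 1, 2, 3, 4, 5, 6, 7, 6, 5, 4, 3, 8, 9, 4, 3, 8, 5, 6, 4, 5, 3, 4, 2, 3, 8, 1, 2, 3, 4, 5, 6, 9, 8, 1, 2, 3, 4, 5, 1, 2, 3, 4, 9, 2, 3, 8, 1, 2, 3, 8, 9, 1]⟩,
    ⟨6648, [5, 6, 4, 5, 3, 4, 2, 3, 8, 9, 3, 8, 5, 2, 3, 4, 1, 2, 3, 8, 0, 1, 2, 3, 4, 5, 6, 7], [7, 6, 5, 3, 4, 2, 3, 8, 9, 3, 8, 4, 5, 3, 4, 1, 2, 3, 8, 0, 1, 2, 3, 4, 5, 6, 7, 6, 5, 4, 3, 8, 9, 4, 3, 8, 5, 6, 4, 5, 3, 4, 2, 3, 8, 1, 2, 3, 4, 5, 6, 9, 8, 1, 2, 3, 4, 5, 9, 3, 4, 2, 3, 8, 1, 2, 3, 4, 9, 8, 0, 1, 2, 3, 2, 9, 0]⟩,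
    ⟨13729, [3, 4, 1, 2, 3, 8, 9, 3, 8, 7, 6, 5, 2, 3, 4, 1, 2, 3, 8, 0, 1, 2, 3, 4, 5, 6, 7], [3, 4, 1, 2, 3, 8, 9, 3, 4, 5, 2, 3, 4, 1, 2, 3, 8, 0, 1, 2, 3, 4, 5, 6, 5, 4, 3, 8, 2, 3, 4, 5, 9, 1, 2, 3, 8, 0, 1, 2, 3, 4, 3, 8, 2, 3, 1]⟩,
    ⟨114, [3, 8, 9, 4, 3, 8, 2, 3, 4, 5, 6, 7], [5, 4, 2, 3, 8, 9, 6, 5, 4, 3, 8, 2, 3, 4, 5, 6, 7, 6, 5, 4, 3, 8, 2, 3, 4, 5, 6, 9, 8, 3, 4, 5, 2]⟩,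
    ⟨6733, [8, 7, 6, 4, 5, 2, 3, 4, 1, 2, 3, 8, 9, 8, 3, 4, 2, 3, 8, 1, 2, 3, 4, 5, 6, 7], [7, 6, 5, 4, 3, 8, 9, 5, 4, 2, 3, 8, 1, 2, 3, 4, 5, 6, 7, 6, 5, 4, 3, 8, 9, 4, 3, 8, 5, 6, 4, 5, 3, 4, 2, 3, 8, 1, 2, 3, 4, 5, 6, 9, 8, 1, 2, 3, 4, 5, 9, 3, 4, 2, 3, 8, 1, 2, 3, 4, 8, 3, 8, 9, 1]⟩,
    ⟨9507, [5, 6, 4, 5, 3, 4, 2, 3, 8, 9, 3, 8, 6, 5, 2, 3, 4, 1, 2, 3, 8, 0, 1, 2, 3, 4, 5, 6, 7], [5, 6, 4, 5, 3, 4, 2, 3, 8, 9, 3, 4, 5, 2, 3, 4, 1, 2, 3, 8, 0, 1, 2, 3, 4, 5, 6, 7, 6, 5, 4, 3, 8, 9, 2, 3, 4, 1, 2, 3, 8, 0, 1, 2, 3, 4, 5, 6, 4, 3, 8, 2, 3, 4, 5]⟩,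
    ⟨6658, [7, 6, 5, 4, 3, 8, 9, 3, 8, 4, 5, 3, 4, 2, 3, 8, 1, 2, 3, 4, 5, 6, 7], [8, 5, 6, 4, 5, 2, 3, 4, 1, 2, 3, 8, 9, 8, 3, 4, 2, 3, 8, 1, 2, 3, 4, 5, 6, 7, 6, 5, 4, 3, 8, 9, 2, 3, 8, 1, 2, 3, 4, 5, 6, 3, 8, 2, 3, 4, 5, 9, 8, 1, 2]⟩,
    ⟨31505, [4, 3, 8, 9, 5, 4, 3, 8, 6, 7, 5, 6, 4, 5, 3, 4, 2, 3, 8, 1, 2, 3, 4, 5, 6, 7], [0, 1, 2, 3, 8, 9, 4, 3, 8, 2, 3, 4, 1, 2, 3, 8, 0, 1, 2, 3, 4, 2, 3, 8, 9, 1, 2, 3, 8, 0, 1, 2, 3, 9, 8, 0, 1, 2, 9, 0, 1, 0]⟩,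
    ⟨29026, [3, 8, 9, 5, 4, 3, 8, 6, 7, 5, 6, 4, 5, 3, 4, 2, 3, 8, 1, 2, 3, 4, 5, 6, 7], [3, 8, 9, 2, 3, 8, 1, 2, 3, 4, 3, 8, 9, 2, 3, 8, 1, 2, 3]⟩,
    ⟨31497, [3, 8, 5, 2, 3, 4, 1, 2, 3, 8, 6, 7, 5, 6, 4, 5, 3, 4, 2, 3, 8, 1, 2, 3, 4, 5, 6, 7], [4]⟩]⟩

/-- A generator point. -/
def dv5 : Dv := ⟨3, [], [], [⟨422, [3, 8, 9, 6, 5, 4, 3, 8, 2, 3, 4, 5, 6, 7], [4, 2, 3, 8, 9, 5, 4, 3, 8, 2, 3, 4, 5, 6, 7, 6, 5, 4, 3, 8, 2, 3, 4, 5, 9, 8, 3, 4, 2]⟩,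
    ⟨463, [4, 2, 3, 8, 9, 6, 5, 4, 3, 8, 1, 2, 3, 4, 5, 6, 7], [1, 2, 3, 8, 9, 5, 4, 3, 8, 1, 2, 3, 4, 5, 6, 7, 6, 5, 4, 3, 8, 2, 3, 4, 5, 9, 8, 3, 1, 2, 1]⟩,
    ⟨813, [5, 4, 1, 2, 3, 8, 9, 4, 1, 2, 3, 8, 0, 1, 2, 3, 4, 5, 6, 7], [4, 5, 2, 3, 4, 0, 1, 2, 3, 8, 9, 6, 5, 4, 2, 3, 8, 0, 1, 2, 3, 4, 5, 6, 7, 6, 5, 4, 3, 8, 2, 3, 4, 5, 6, 9, 8, 1, 2, 3, 4, 5, 2, 3, 4, 0, 1, 2, 0]⟩,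
    ⟨1256, [4, 1, 2, 3, 8, 9, 4, 1, 2, 3, 8, 0, 1, 2, 3, 4, 5, 6, 7], [4, 5, 2, 3, 4, 0, 1, 2, 3, 8, 9, 6, 5, 4, 3, 8, 0, 1, 2, 3, 4, 5, 6, 7, 6, 5, 4, 3, 8, 2, 3, 4, 5, 6, 9, 8, 3, 4, 5, 1, 2, 3, 4, 0, 1, 2, 0]⟩,
    ⟨3063, [8, 9, 2, 3, 8, 4, 5, 3, 4, 1, 2, 3, 8, 9, 3, 4, 5, 2, 3, 4, 1, 2, 3, 8, 0, 1, 2, 3, 4, 5, 6, 7], [8, 9, 2, 3, 8, 4, 5, 3, 4, 1, 2, 3, 8, 9, 3, 8, 6, 5, 2, 3, 4, 1, 2, 3, 8, 0, 1, 2, 3, 4, 5, 6, 7, 6, 5, 4, 3, 8, 2, 3, 4, 5, 6, 9, 1, 2, 3, 8, 0, 1, 2, 3, 4, 5, 9, 8, 2, 3, 4, 8, 3, 9, 8, 1, 2]⟩,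
    ⟨3463, [5, 4, 2, 3, 8, 9, 6, 5, 4, 3, 8, 1, 2, 3, 4, 5, 6, 7], [1, 2, 3, 8, 9, 4, 3, 8, 1, 2, 3, 4, 5, 6, 7, 6, 5, 4, 3, 8, 2, 3, 4, 9, 8, 3, 1, 2, 1]⟩,
    ⟨4243, [0, 1, 2, 3, 8, 9, 7, 6, 5, 4, 3, 8, 1, 2, 3, 4, 5, 6, 7], [4, 2, 3, 8, 9, 5, 4, 3, 8, 0, 1, 2, 3, 4, 5, 6, 5, 4, 3, 8, 2, 3, 4, 5, 9, 8, 3, 4, 1, 2, 0]⟩,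
    ⟨6036, [8, 7, 6, 5, 2, 3, 4, 1, 2, 3, 8, 9, 8, 3, 4, 2, 3, 8, 1, 2, 3, 4, 5, 6, 7], [7, 6, 5, 4, 3, 8, 9, 4, 2, 3, 8, 1, 2, 3, 4, 5, 6, 7, 6, 5, 4, 3, 8, 9, 4, 3, 8, 5, 6, 4, 5, 3, 4, 2, 3, 8, 1, 2, 3, 4, 5, 6, 9, 8, 1, 2, 3, 4, 5, 1, 2, 3, 4, 9, 2, 3, 8, 1, 2, 3, 8, 9, 1]⟩,
    ⟨6770, [7, 6, 4, 5, 3, 4, 0, 1, 2, 3, 8, 9, 5, 4, 1, 2, 3, 8, 0, 1, 2, 3, 4, 5, 6, 7], [7, 6, 5, 3, 4, 0, 1, 2, 3, 8, 9, 3, 8, 5, 2, 3, 4, 1, 2, 3, 8, 0, 1, 2, 3, 4, 5, 6, 7, 6, 5, 4, 3, 8, 9, 8, 5, 6, 4, 5, 2, 3, 4, 1, 2, 3, 8, 0, 1, 2, 3, 4, 5, 6, 2, 3, 8, 9, 4, 3, 8, 2, 3, 4, 1, 2, 3, 8, 0, 1, 2, 3, 4, 5, 2, 3, 4, 1, 2, 3, 8, 9, 8, 3, 4,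 1, 2, 3, 8, 0, 1, 2, 3, 4, 2, 3, 8, 9, 1, 2, 3, 8, 0, 1, 2, 3, 0, 1, 2, 9, 0]⟩,
    ⟨6771, [7, 5, 6, 4, 5, 3, 4, 0, 1, 2, 3, 8, 9, 5, 4, 1, 2, 3, 8, 0, 1, 2, 3, 4, 5, 6, 7], [7, 6, 5, 3, 4, 0, 1, 2, 3, 8, 9, 3, 8, 6, 5, 2, 3, 4, 1, 2, 3, 8, 0, 1, 2, 3, 4, 5, 6, 7, 6, 5, 4, 3, 8, 9, 8, 5, 6, 4, 5, 2, 3, 4, 1, 2, 3, 8, 0, 1, 2, 3, 4, 5, 6, 3, 8, 4, 5, 3, 4, 0, 1, 2, 3, 8, 9, 3, 4, 5, 2, 3, 4, 1, 2, 3, 8, 0, 1, 2, 3, 4, 5, 8, 9, 8, 2, 3, 4, 1, 2, 3, 8, 0, 1, 2, 3, 4, 8, 9, 3, 8, 1, 2, 3, 2, 9, 1, 0]⟩,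
    ⟨7353, [8, 6, 5, 2, 3, 4, 1, 2, 3, 8, 9, 8, 3, 4, 2, 3, 8, 0, 1, 2, 3, 4, 5, 6, 7], [7, 6, 4, 5, 2, 3, 4, 1, 2, 3, 8, 9, 6, 5, 4, 2, 3, 8, 0, 1, 2, 3, 4, 5, 6, 7, 6, 5, 4, 3, 8, 9, 4, 3, 8, 5, 6, 4, 5, 3, 4, 2, 3, 8, 1, 2, 3, 4, 5, 6, 8, 9, 8, 4, 5, 3, 4, 2, 3, 8, 1, 2, 3, 4, 5, 4, 3, 8, 1, 2, 3, 4, 2, 3, 0, 1, 2, 9, 1]⟩,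
    ⟨27362, [5, 4, 3, 8, 9, 5, 4, 3, 8, 6, 7, 5, 6, 4, 5, 3, 4, 2, 3, 8, 1, 2, 3, 4, 5, 6, 7], [0, 1, 2, 3, 8, 9, 4, 3, 8, 2, 3, 4, 1, 2, 3, 8, 0, 1, 2, 3, 4, 5, 4, 3, 8, 2, 3, 4, 1, 2, 3, 8, 0, 1, 2, 3, 4, 9, 8, 3, 2, 1, 0]⟩,
    ⟨31422, [4, 3, 8, 2, 3, 4, 1, 2, 3, 8, 6, 7, 5, 6, 4, 5, 3, 4, 2, 3, 8, 1, 2, 3, 4, 5, 6, 7], [5]⟩,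
    ⟨31504, [8, 4, 5, 3, 4, 1, 2, 3, 8, 6, 7, 5, 6, 4, 5, 3, 4, 2, 3, 8, 1, 2, 3, 4, 5, 6, 7], [2, 3, 2]⟩,
    ⟨31505, [4, 3, 8, 9, 5, 4, 3, 8, 6, 7, 5, 6, 4, 5, 3, 4, 2, 3, 8, 1, 2, 3, 4, 5, 6, 7], [0, 1, 2, 3, 8, 9, 4, 3, 8, 2, 3, 4, 1, 2, 3, 8, 0, 1, 2, 3, 4, 2, 3, 8, 9, 1, 2, 3, 8, 0, 1, 2, 3, 9, 8, 0, 1, 2, 9, 0, 1, 0]⟩]⟩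

/-- A generator point. -/
def dv6 : Dv := ⟨4, [], [], [⟨114, [3, 8, 9, 4, 3, 8, 2, 3, 4, 5, 6, 7], [5, 4, 2, 3, 8, 9, 6, 5, 4, 3, 8, 2, 3, 4, 5, 6, 7, 6, 5, 4, 3, 8, 2, 3, 4, 5, 6, 9, 8, 3, 4, 5, 2]⟩,
    ⟨1256, [4, 1, 2, 3, 8, 9, 4, 1, 2, 3, 8, 0, 1, 2, 3, 4, 5, 6, 7], [4, 5, 2, 3, 4, 0, 1, 2, 3, 8, 9, 6, 5, 4, 3, 8, 0, 1, 2, 3, 4, 5, 6, 7, 6, 5, 4, 3, 8, 2, 3, 4, 5, 6, 9, 8, 3, 4, 5, 1, 2, 3, 4, 0, 1, 2, 0]⟩,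
    ⟨6036, [8, 7, 6, 5, 2, 3, 4, 1, 2, 3, 8, 9, 8, 3, 4, 2, 3, 8, 1, 2, 3, 4, 5, 6, 7], [7, 6, 5, 4, 3, 8, 9, 4, 2, 3, 8, 1, 2, 3, 4, 5, 6, 7, 6, 5, 4, 3, 8, 9, 4, 3, 8, 5, 6, 4, 5, 3, 4, 2, 3, 8, 1, 2, 3, 4, 5, 6, 9, 8, 1, 2, 3, 4, 5, 1, 2, 3, 4, 9, 2, 3, 8, 1, 2, 3, 8, 9, 1]⟩,
    ⟨9507, [5, 6, 4, 5, 3, 4, 2, 3, 8, 9, 3, 8, 6, 5, 2, 3, 4, 1, 2, 3, 8, 0, 1, 2, 3, 4, 5, 6, 7], [5, 6, 4, 5, 3, 4, 2, 3, 8, 9, 3, 4, 5, 2, 3, 4, 1, 2, 3, 8, 0, 1, 2, 3, 4, 5, 6, 7, 6, 5, 4, 3, 8, 9, 2, 3, 4, 1, 2, 3, 8, 0, 1, 2, 3, 4, 5, 6, 4, 3, 8, 2, 3, 4, 5]⟩,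
    ⟨11291, [5, 4, 3, 8, 2, 3, 4, 1, 2, 3, 8, 7, 5, 6, 4, 5, 3, 4, 2, 3, 8, 1, 2, 3, 4, 5, 6, 7], [6]⟩,
    ⟨13729, [3, 4, 1, 2, 3, 8, 9, 3, 8, 7, 6, 5, 2, 3, 4, 1, 2, 3, 8, 0, 1, 2, 3, 4, 5, 6, 7], [3, 4, 1, 2, 3, 8, 9, 3, 4, 5, 2, 3, 4, 1, 2, 3, 8, 0, 1, 2, 3, 4, 5, 6, 5, 4, 3, 8, 2, 3, 4, 5, 9, 1, 2, 3, 8, 0, 1, 2, 3, 4, 3, 8, 2, 3, 1]⟩,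
    ⟨31505, [4, 3, 8, 9, 5, 4, 3, 8, 6, 7, 5, 6, 4, 5, 3, 4, 2, 3, 8, 1, 2, 3, 4, 5, 6, 7], [0, 1, 2, 3, 8, 9, 4, 3, 8, 2, 3, 4, 1, 2, 3, 8, 0, 1, 2, 3, 4, 2, 3, 8, 9, 1, 2, 3, 8, 0, 1, 2, 3, 9, 8, 0, 1, 2, 9, 0, 1, 0]⟩]⟩

/-- A generator point. -/
def dv7 : Dv := ⟨5, [], [], [⟨114, [3, 8, 9, 4, 3, 8, 2, 3, 4, 5, 6, 7], [5, 4, 2, 3, 8, 9, 6, 5, 4, 3, 8, 2, 3, 4, 5, 6, 7, 6, 5, 4, 3, 8, 2, 3, 4, 5, 6, 9, 8, 3, 4, 5, 2]⟩,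
    ⟨570, [8, 5, 2, 3, 4, 1, 2, 3, 8, 9, 8, 3, 4, 2, 3, 8, 1, 2, 3, 4, 5, 6, 7], [7, 6, 5, 4, 3, 8, 9, 3, 8, 7, 5, 6, 4, 5, 3, 4, 2, 3, 8, 1, 2, 3, 4, 5, 6, 7, 9, 8, 1, 2, 3, 4, 5, 6, 5, 4, 3, 8, 9, 3, 8, 4, 5, 3, 4, 2, 3, 8, 1, 2, 3, 4, 5, 8, 9, 8, 3, 4, 2, 3, 8, 1, 2, 3, 4, 8, 3, 9, 8, 9, 1]⟩,
    ⟨1256, [4, 1, 2, 3, 8, 9, 4, 1, 2, 3, 8, 0, 1, 2, 3, 4, 5, 6, 7], [4, 5, 2, 3, 4, 0, 1, 2, 3, 8, 9, 6, 5, 4, 3, 8, 0, 1, 2, 3, 4, 5, 6, 7, 6, 5, 4, 3, 8, 2, 3, 4, 5, 6, 9, 8, 3, 4, 5, 1, 2, 3, 4, 0, 1, 2, 0]⟩,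
    ⟨2196, [3, 4, 1, 2, 3, 8, 9, 3, 8, 5, 2, 3, 4, 1, 2, 3, 8, 0, 1, 2, 3, 4, 5, 6, 7], [3, 4, 1, 2, 3, 8, 9, 6, 3, 4, 5, 2, 3, 4, 1, 2, 3, 8, 0, 1, 2, 3, 4, 5, 6, 7, 6, 5, 4, 3, 8, 2, 3, 4, 5, 6, 9, 1, 2, 3, 8, 0, 1, 2, 3, 4, 3, 8, 2, 3, 1]⟩,
    ⟨4087, [5, 1, 2, 3, 4, 0, 1, 2, 3, 8, 9, 3, 8, 5, 2, 3, 4, 1, 2, 3, 8, 0, 1, 2, 3, 4, 5, 6, 7], [7, 6, 4, 5, 3, 4, 2, 3, 8, 9, 7, 6, 5, 4, 1, 2, 3, 8, 0, 1, 2, 3, 4, 5, 6, 7, 9, 8, 1, 2, 3, 4, 5, 6, 5, 4, 3, 8, 9, 3, 8, 4, 5, 3, 4, 2, 3, 8, 1, 2, 3, 4, 5, 9, 8, 0, 1, 2, 3, 4, 0, 1, 2, 3, 0, 1, 2, 9, 0, 1, 0]⟩,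
    ⟨6033, [8, 6, 5, 2, 3, 4, 1, 2, 3, 8, 9, 8, 3, 4, 2, 3, 8, 1, 2, 3, 4, 5, 6, 7], [7, 6, 5, 4, 3, 8, 9, 3, 8, 5, 6, 4, 5, 3, 4, 2, 3, 8, 1, 2, 3, 4, 5, 6, 7, 6, 5, 4, 3, 8, 9, 4, 3, 8, 5, 6, 4, 5, 3, 4, 2, 3, 8, 1, 2, 3, 4, 5, 6, 8, 9, 8, 4, 5, 3, 4, 2, 3, 8, 1, 2, 3, 4, 5, 9, 8, 3, 4, 9, 8, 3, 9, 1]⟩,
    ⟨6036, [8, 7, 6, 5, 2, 3, 4, 1, 2, 3, 8, 9, 8, 3, 4, 2, 3, 8, 1, 2, 3, 4, 5, 6, 7], [7, 6, 5, 4, 3, 8, 9, 4, 2, 3, 8, 1, 2, 3, 4, 5, 6, 7, 6, 5, 4, 3, 8, 9, 4, 3, 8, 5, 6, 4, 5, 3, 4, 2, 3, 8, 1, 2, 3, 4, 5, 6, 9, 8, 1, 2, 3, 4, 5, 1, 2, 3, 4, 9, 2, 3, 8, 1, 2, 3, 8, 9, 1]⟩,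
    ⟨8230, [3, 4, 1, 2, 3, 8, 9, 3, 8, 6, 5, 2, 3, 4, 1, 2, 3, 8, 0, 1, 2, 3, 4, 5, 6, 7], [3, 4, 1, 2, 3, 8, 9, 3, 4, 5, 2, 3, 4, 1, 2, 3, 8, 0, 1, 2, 3, 4, 5, 6, 7, 6, 5, 4, 3, 8, 2, 3, 4, 5, 9, 1, 2, 3, 8, 0, 1, 2, 3, 4, 3, 8, 2, 3, 1]⟩,
    ⟨9328, [7, 5, 6, 4, 5, 3, 4, 2, 3, 8, 9, 3, 8, 6, 5, 2, 3, 4, 1, 2, 3, 8, 0, 1, 2, 3, 4, 5, 6, 7], [7, 6, 4, 5, 3, 4, 2, 3, 8, 9, 6, 5, 4, 1, 2, 3, 8, 0, 1, 2, 3, 4, 5, 6, 7, 6, 5, 4, 3, 8, 9, 4, 3, 8, 5, 6, 4, 5, 3, 4, 2, 3, 8, 1, 2, 3, 4, 5, 6, 8, 9, 8, 4, 5, 3, 4, 2, 3, 8, 1, 2, 3, 4, 5, 4, 3, 8, 0, 1, 2, 3, 4, 2, 3, 2, 9, 0]⟩,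
    ⟨9507, [5, 6, 4, 5, 3, 4, 2, 3, 8, 9, 3, 8, 6, 5, 2, 3, 4, 1, 2, 3, 8, 0, 1, 2, 3, 4, 5, 6, 7], [5, 6, 4, 5, 3, 4, 2, 3, 8, 9, 3, 4, 5, 2, 3, 4, 1, 2, 3, 8, 0, 1, 2, 3, 4, 5, 6, 7, 6, 5, 4, 3, 8, 9, 2, 3, 4, 1, 2, 3, 8, 0, 1, 2, 3, 4, 5, 6, 4, 3, 8, 2, 3, 4, 5]⟩,
    ⟨10444, [5, 4, 3, 8, 2, 3, 4, 1, 2, 3, 8, 5, 6, 4, 5, 3, 4, 2, 3, 8, 1, 2, 3, 4, 5, 6, 7], [6, 7, 6]⟩,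
    ⟨11291, [5, 4, 3, 8, 2, 3, 4, 1, 2, 3, 8, 7, 5, 6, 4, 5, 3, 4, 2, 3, 8, 1, 2, 3, 4, 5, 6, 7], [6]⟩,
    ⟨13729, [3, 4, 1, 2, 3, 8, 9, 3, 8, 7, 6, 5, 2, 3, 4, 1, 2, 3, 8, 0, 1, 2, 3, 4, 5, 6, 7], [3, 4, 1, 2, 3, 8, 9, 3, 4, 5, 2, 3, 4, 1, 2, 3, 8, 0, 1, 2, 3, 4, 5, 6, 5, 4, 3, 8, 2, 3, 4, 5, 9, 1, 2, 3, 8, 0, 1, 2, 3, 4, 3, 8, 2, 3, 1]⟩,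
    ⟨31421, [6, 5, 4, 3, 8, 2, 3, 4, 1, 2, 3, 8, 5, 6, 4, 5, 3, 4, 2, 3, 8, 1, 2, 3, 4, 5, 6, 7], [7]⟩,
    ⟨31505, [4, 3, 8, 9, 5, 4, 3, 8, 6, 7, 5, 6, 4, 5, 3, 4, 2, 3, 8, 1, 2, 3, 4, 5, 6, 7], [0, 1, 2, 3, 8, 9, 4, 3, 8, 2, 3, 4, 1, 2, 3, 8, 0, 1, 2, 3, 4, 2, 3, 8, 9, 1, 2, 3, 8, 0, 1, 2, 3, 9, 8, 0, 1, 2, 9, 0, 1, 0]⟩]⟩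

/-- A generator point. -/
def dv8 : Dv := ⟨6, [], [], [⟨811, [4, 1, 2, 3, 8, 9, 3, 4, 1, 2, 3, 8, 0, 1, 2, 3, 4, 5, 6, 7], [4, 1, 2, 3, 8, 9, 8, 5, 6, 4, 5, 3, 4, 1, 2, 3, 8, 0, 1, 2, 3, 4, 5, 6, 7, 6, 5, 4, 3, 8, 2, 3, 4, 5, 6, 1, 2, 3, 4, 5, 9, 8, 3, 4, 0, 1, 2, 9, 1]⟩,
    ⟨1256, [4, 1, 2, 3, 8, 9, 4, 1, 2, 3, 8, 0, 1, 2, 3, 4, 5, 6, 7], [4, 5, 2, 3, 4, 0, 1, 2, 3, 8, 9, 6, 5, 4, 3, 8, 0, 1, 2, 3, 4, 5, 6, 7, 6, 5, 4, 3, 8, 2, 3, 4, 5, 6, 9, 8, 3, 4, 5, 1, 2, 3, 4, 0, 1, 2, 0]⟩,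
    ⟨6032, [7, 6, 5, 2, 3, 4, 1, 2, 3, 8, 9, 8, 3, 4, 2, 3, 8, 1, 2, 3, 4, 5, 6, 7], [7, 6, 5, 4, 3, 8, 9, 3, 4, 2, 3, 8, 1, 2, 3, 4, 5, 6, 7, 6, 5, 4, 3, 8, 9, 4, 3, 8, 5, 6, 4, 5, 3, 4, 2, 3, 8, 1, 2, 3, 4, 5, 6, 9, 8, 1, 2, 3, 4, 5, 1, 2, 3, 4, 9, 2, 3, 8, 1, 2, 3, 9, 8, 9, 1]⟩,
    ⟨6036, [8, 7, 6, 5, 2, 3, 4, 1, 2, 3, 8, 9, 8, 3, 4, 2, 3, 8, 1, 2, 3, 4, 5, 6, 7], [7, 6, 5, 4, 3, 8, 9, 4, 2, 3, 8, 1, 2, 3, 4, 5, 6, 7, 6, 5, 4, 3, 8, 9, 4, 3, 8, 5, 6, 4, 5, 3, 4, 2, 3, 8, 1, 2, 3, 4, 5, 6, 9, 8, 1, 2, 3, 4, 5, 1, 2, 3, 4, 9, 2, 3, 8, 1, 2, 3, 8, 9, 1]⟩,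
    ⟨8438, [2, 3, 8, 7, 6, 4, 5, 2, 3, 4, 0, 1, 2, 3, 8, 9, 5, 4, 1, 2, 3, 8, 0, 1, 2, 3, 4, 5, 6, 7], [3, 8, 7, 6, 5, 2, 3, 4, 0, 1, 2, 3, 8, 9, 8, 5, 2, 3, 4, 1, 2, 3, 8, 0, 1, 2, 3, 4, 5, 6, 7, 6, 5, 4, 3, 8, 9, 8, 5, 6, 4, 5, 2, 3, 4, 1, 2, 3, 8, 0, 1, 2, 3, 4, 5, 6, 2, 3, 8, 9, 4, 3, 8, 2, 3, 4, 1, 2, 3, 8, 0, 1, 2, 3, 4, 5, 2, 3, 4, 1, 2, 3, 8, 9, 8, 3, 4, 1, 2, 3, 8, 0, 1, 2, 3, 4, 1, 2, 3, 8, 0, 1, 2, 3, 9, 8, 1, 2, 0, 1, 0]⟩,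
    ⟨31505, [4, 3, 8, 9, 5, 4, 3, 8, 6, 7, 5, 6, 4, 5, 3, 4, 2, 3, 8, 1, 2, 3, 4, 5, 6, 7], [0, 1, 2, 3, 8, 9, 4, 3, 8, 2, 3, 4, 1, 2, 3, 8, 0, 1, 2, 3, 4, 2, 3, 8, 9, 1, 2, 3, 8, 0, 1, 2, 3, 9, 8, 0, 1, 2, 9, 0, 1, 0]⟩,
    ⟨31657, [3, 4, 5, 2, 3, 4, 1, 2, 3, 8, 6, 7, 5, 6, 4, 5, 3, 4, 2, 3, 8, 1, 2, 3, 4, 5, 6, 7], [8]⟩]⟩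

/-- A generator point. -/
def dv9 : Dv := ⟨7, [], [], [⟨1256, [4, 1, 2, 3, 8, 9, 4, 1, 2, 3, 8, 0, 1, 2, 3, 4, 5, 6, 7], [4, 5, 2, 3, 4, 0, 1, 2, 3, 8, 9, 6, 5, 4, 3, 8, 0, 1, 2, 3, 4, 5, 6, 7, 6, 5, 4, 3, 8, 2, 3, 4, 5, 6, 9, 8, 3, 4, 5, 1, 2, 3, 4, 0, 1, 2, 0]⟩,
    ⟨5935, [7, 6, 5, 4, 1, 2, 3, 8, 9, 4, 2, 3, 8, 1, 2, 3, 4, 5, 6, 7], [8, 7, 6, 5, 3, 4, 2, 3, 8, 9, 8, 3, 4, 2, 3, 8, 1, 2, 3, 4, 5, 6, 7, 6, 5, 4, 3, 8, 9, 4, 3, 8, 5, 6, 4, 5, 3, 4, 2, 3, 8, 1, 2, 3, 4, 5, 6, 9, 8, 1, 2, 3, 4, 5, 1, 2, 3, 4, 3, 8, 9, 2, 3, 8, 1, 2, 3, 2, 9]⟩,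
    ⟨6036, [8, 7, 6, 5, 2, 3, 4, 1, 2, 3, 8, 9, 8, 3, 4, 2, 3, 8, 1, 2, 3, 4, 5, 6, 7], [7, 6, 5, 4, 3, 8, 9, 4, 2, 3, 8, 1, 2, 3, 4, 5, 6, 7, 6, 5, 4, 3, 8, 9, 4, 3, 8, 5, 6, 4, 5, 3, 4, 2, 3, 8, 1, 2, 3, 4, 5, 6, 9, 8, 1, 2, 3, 4, 5, 1, 2, 3, 4, 9, 2, 3, 8, 1, 2, 3, 8, 9, 1]⟩,
    ⟨7149, [4, 3, 8, 9, 3, 8, 5, 6, 4, 5, 3, 4, 2, 3, 8, 0, 1, 2, 3, 4, 5, 6, 7], [4, 3, 8, 9, 4, 2, 3, 8, 0, 1, 2, 3, 4, 5, 6, 7, 6, 5, 4, 3, 8, 9, 2, 3, 8, 1, 2, 3, 4, 3, 0]⟩,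
    ⟨24523, [8, 9, 3, 8, 2, 3, 4, 1, 2, 3, 8, 9, 8, 7, 6, 5, 2, 3, 4, 1, 2, 3, 8, 0, 1, 2, 3, 4, 5, 6, 7], [8, 9, 3, 8, 2, 3, 4, 1, 2, 3, 8, 9, 4, 5, 2, 3, 4, 1, 2, 3, 8, 0, 1, 2, 3, 4, 5, 6, 5, 4, 3, 8, 2, 3, 4, 5, 9, 1, 2, 3, 8, 0, 1, 2, 3, 4, 2, 3, 8, 1, 2, 3, 9, 8, 1]⟩,
    ⟨31505, [4, 3, 8, 9, 5, 4, 3, 8, 6, 7, 5, 6, 4, 5, 3, 4, 2, 3, 8, 1, 2, 3, 4, 5, 6, 7], [0, 1, 2, 3, 8, 9, 4, 3, 8, 2, 3, 4, 1, 2, 3, 8, 0, 1, 2, 3, 4, 2, 3, 8, 9, 1, 2, 3, 8, 0, 1, 2, 3, 9, 8, 0, 1, 2, 9, 0, 1, 0]⟩,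
    ⟨31669, [8, 3, 4, 2, 3, 8, 5, 6, 4, 5, 3, 4, 2, 3, 8, 9, 7, 6, 5, 4, 3, 8, 2, 3, 4, 5, 6, 7], [9]⟩]⟩

/-- The generator points. -/
def dvs : List Dv := [dv0, dv1, dv2, dv3, dv4, dv5, dv6, dv7, dv8, dv9]

/-- The elements commuting with the squares. -/
def zs : List (List ℕ × List ℕ) := [([4, 5, 2, 3, 4, 0, 1, 2, 3, 8, 9, 6, 5, 4, 3, 8, 0, 1, 2, 3, 4, 5, 6, 7, 6, 5, 4, 3, 8, 2, 3, 4, 5, 6, 9, 8, 3, 4, 5, 1, 2, 3, 4, 0, 1, 2, 0], [4, 1, 2, 3, 8, 9, 4, 1, 2, 3, 8, 0, 1, 2, 3, 4, 5, 6, 7]),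
    ([8, 9, 3, 8, 2, 3, 4, 1, 2, 3, 8, 9, 7, 6, 4, 5, 2, 3, 4, 1, 2, 3, 8, 0, 1, 2, 3, 4, 5, 6, 7, 5, 4, 3, 8, 2, 3, 4, 5, 6, 5, 4, 3, 8, 2, 3, 4, 5, 2, 3, 4, 1, 2, 3, 8, 9, 8, 2, 3, 4, 1, 2, 3, 8, 0, 1, 2, 3, 4, 8, 3, 9, 8, 9, 0, 1, 0], [3, 8]),
    ([4, 5, 2, 3, 4, 0, 1, 2, 3, 8, 9, 6, 5, 4, 3, 8, 0, 1, 2, 3, 4, 5, 6, 7, 6, 5, 4, 3, 8, 2, 3, 4, 5, 6, 9, 8, 3, 4, 5, 3, 4, 1, 2, 3, 8, 9, 3, 8, 2, 3, 4, 1, 2, 3, 8, 0, 1, 2, 3, 4, 2, 3, 8, 9, 1, 2, 3, 8, 0, 1, 2, 3, 9, 8, 2, 9, 0, 1, 0], [2, 4]),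
    ([8, 9, 3, 8, 2, 3, 4, 1, 2, 3, 8, 9, 7, 6, 4, 5, 2, 3, 4, 1, 2, 3, 8, 0, 1, 2, 3, 4, 5, 6, 7, 5, 4, 3, 8, 2, 3, 4, 5, 6, 5, 4, 3, 8, 2, 3, 4, 5, 1, 2, 3, 8, 9, 8, 3, 4, 2, 3, 8, 0, 1, 2, 3, 4, 8, 3, 9, 8, 9, 0, 1, 0], [5, 4]),
    ([4, 2, 3, 8, 9, 7, 6, 3, 4, 5, 2, 3, 4, 1, 2, 3, 8, 0, 1, 2, 3, 4, 5, 6, 7, 5, 4, 2, 3, 8, 9, 3, 8, 6, 5, 2, 3, 4, 1, 2, 3, 8, 0, 1, 2, 3, 4, 5, 6, 2, 3, 8, 9, 4, 3, 8, 2, 3, 4, 1, 2, 3, 8, 0, 1, 2, 3, 4, 5, 0, 1, 2, 3, 8, 9, 3, 4, 1, 2, 3, 8, 0, 1, 2, 3, 4, 8, 9, 2, 3, 8, 1, 2, 3, 9, 8, 0, 1, 2, 9, 1, 0], [7, 0]),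
    ([5, 6, 4, 5, 3, 4, 2, 3, 8, 9, 3, 4, 5, 2, 3, 4, 1, 2, 3, 8, 0, 1, 2, 3, 4, 5, 6, 7, 4, 3, 8, 5, 6, 4, 5, 3, 4, 1, 2, 3, 8, 9, 4, 1, 2, 3, 8, 0, 1, 2, 3, 4, 5, 6, 9, 8, 5, 3, 4, 2, 3, 8, 9, 1, 2, 3, 8, 0, 1, 2, 3, 4, 5, 8, 3, 4, 2, 3, 8, 9, 8, 2, 3, 4, 1, 2, 3, 8, 0, 1, 2, 3, 4, 1, 2, 3, 8, 0, 1, 2, 3, 8, 1, 2, 0, 1], [2, 8]),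
    ([4, 2, 3, 8, 9, 7, 6, 3, 4, 5, 2, 3, 4, 1, 2, 3, 8, 0, 1, 2, 3, 4, 5, 6, 7, 5, 4, 2, 3, 8, 9, 3, 8, 6, 5, 2, 3, 4, 1, 2, 3, 8, 0, 1, 2, 3, 4, 5, 6, 2, 3, 8, 9, 4, 3, 8, 2, 3, 4, 1, 2, 3, 8, 0, 1, 2, 3, 4, 5, 9, 3, 8, 0, 1, 2, 3, 4, 9, 3, 8, 1, 2, 3, 0, 1, 0], [4, 3]),
    ([5, 6, 4, 5, 3, 4, 2, 3, 8, 9, 3, 4, 5, 2, 3, 4, 1, 2, 3, 8, 0, 1, 2, 3, 4, 5, 6, 7, 4, 3, 8, 5, 6, 4, 5, 3, 4, 1, 2, 3, 8, 9, 4, 1, 2, 3, 8, 0, 1, 2, 3, 4, 5, 6, 9, 8, 5, 3, 4, 2, 3, 8, 9, 1, 2, 3, 8, 0, 1, 2, 3, 4, 5, 4, 0, 1, 2, 3, 8, 9, 8, 3, 4, 2, 3, 8, 1, 2, 3, 4, 0, 1, 2, 3, 8, 2, 9, 0], [8, 3]),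
    ([3, 4, 1, 2, 3, 8, 9, 7, 6, 5, 4, 2, 3, 8, 1, 2, 3, 4, 5, 6, 7, 6, 4, 5, 3, 4, 2, 3, 8, 9, 8, 5, 6, 4, 5, 3, 4, 2, 3, 8, 1, 2, 3, 4, 5, 6, 9, 8, 1, 2, 3, 4, 5, 2, 3, 8, 9, 4, 3, 8, 2, 3, 4, 2, 3, 2, 1], [0, 1]),
    ([7, 6, 5, 4, 3, 8, 9, 4, 2, 3, 8, 1, 2, 3, 4, 5, 6, 7, 6, 5, 4, 3, 8, 9, 4, 3, 8, 5, 6, 4, 5, 3, 4, 2, 3, 8, 1, 2, 3, 4, 5, 6, 9, 8, 1, 2, 3, 4, 5, 1, 2, 3, 4, 9, 2, 3, 8, 1, 2, 3, 8, 9, 1], [8, 7, 6, 5, 2, 3, 4, 1, 2, 3, 8, 9, 8, 3, 4, 2, 3, 8, 1, 2, 3, 4, 5, 6, 7]),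
    ([3, 4, 1, 2, 3, 8, 9, 7, 6, 5, 4, 2, 3, 8, 1, 2, 3, 4, 5, 6, 7, 6, 4, 5, 3, 4, 2, 3, 8, 9, 8, 5, 6, 4, 5, 3, 4, 2, 3, 8, 1, 2, 3, 4, 5, 6, 9, 8, 1, 2, 3, 4, 5, 1, 2, 3, 8, 9, 4, 3, 8, 2, 3, 4, 2, 3, 2, 1], [5, 1]),
    ([7, 6, 5, 4, 3, 8, 9, 4, 2, 3, 8, 1, 2, 3, 4, 5, 6, 7, 6, 5, 4, 3, 8, 9, 4, 3, 8, 5, 6, 4, 5, 3, 4, 2, 3, 8, 1, 2, 3, 4, 5, 6, 9, 8, 1, 2, 3, 4, 5, 8, 3, 4, 2, 3, 8, 9, 8, 3, 4, 2, 3, 8, 1, 2, 3, 4, 9, 2, 3, 8, 1, 2, 3, 8, 9, 1], [7, 0]),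
    ([5, 4, 2, 3, 8, 9, 6, 5, 4, 3, 8, 2, 3, 4, 5, 6, 7, 9, 6, 5, 4, 3, 8, 2, 3, 4, 5, 6, 9, 8, 3, 4, 5, 0, 1, 2, 3, 8, 9, 4, 3, 8, 2, 3, 4, 1, 2, 3, 8, 0, 1, 2, 3, 4, 2, 3, 8, 9, 1, 2, 3, 8, 0, 1, 2, 3, 9, 8, 1, 2, 9, 0, 1, 0], [5, 0]),
    ([0, 1, 2, 3, 8, 9, 4, 3, 8, 2, 3, 4, 1, 2, 3, 8, 0, 1, 2, 3, 4, 2, 3, 8, 9, 1, 2, 3, 8, 0, 1, 2, 3, 9, 8, 0, 1, 2, 9, 0, 1, 0], [4, 3, 8, 9, 5, 4, 3, 8, 6, 7, 5, 6, 4, 5, 3, 4, 2, 3, 8, 1, 2, 3, 4, 5, 6, 7]),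
    ([5, 4, 2, 3, 8, 9, 6, 5, 4, 3, 8, 2, 3, 4, 5, 6, 7, 9, 6, 5, 4, 3, 8, 2, 3, 4, 5, 6, 9, 8, 3, 4, 5, 2], [5, 1]),
    ([], [])]

end Cfsg.Agent.Fus.Fi23Out
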