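import Cfsg.Agent.Lib.Fus.Fi23Out.TreeData

/-! Checks of orbits. -/

set_option autoImplicit false
set_option maxRecDepth 100000
set_option maxHeartbeats 4000000

open Cfsg.Agent.Spor.Cos Cfsg.Agent.Spor.Cos.Triple Cfsg.Agent.Fus.Transp

namespace Cfsg.Agent.Fus.Fi23Out

open Cfsg.Agent.Spor.Cos.Fi23 (actA)

theorem o1_ents_b0 : allBlock (o1.chkEnt actA ws0 31502) 28160 2048 0 = true := by decide +kernel

theorem o1_ents_b1 : allBlock (o1.chkEnt actA ws0 31502) 28160 2048 1 = true := by decide +kernel

theorem o1_ents_b2 : allBlock (o1.chkEnt actA ws0 31502) 28160 2048 2 = true := by decide +kernel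

theorem o1_ents_b3 : allBlock (o1.chkEnt actA ws0 31502) 28160 2048 3 = true := by decide +kernel

theorem o1_ents_b4 : allBlock (o1.chkEnt actA ws0 31502) 28160 2048 4 = true := by decide +kernel

theorem o1_ents_b5 : allBlock (o1.chkEnt actA ws0 31502) 28160 2048 5 = true := by decide +kernel

theorem o1_ents_b6 : allBlock (o1.chkEnt actA ws0 31502) 28160 2048 6 = true := by decide +kernel

theorem o1_ents_b7 : allBlock (o1.chkEnt actA ws0 31502) 28160 2048 7 = true := by decide +kernel

theorem o1_ents_b8 : allBlock (o1.chkEnt actA ws0 31502) 28160 2048 8 = true := by decide +kernel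

theorem o1_ents_b9 : allBlock (o1.chkEnt actA ws0 31502) 28160 2048 9 = true := by decide +kernel

theorem o1_ents_b10 : allBlock (o1.chkEnt actA ws0 31502) 28160 2048 10 = true := by decide +kernel

theorem o1_ents_b11 : allBlock (o1.chkEnt actA ws0 31502) 28160 2048 11 = true := by decide +kernel

theorem o1_ents_b12 : allBlock (o1.chkEnt actA ws0 31502) 28160 2048 12 = true := by decide +kernel

theorem o1_ents_b13 : allBlock (o1.chkEnt actA ws0 31502) 28160 2048 13 = true := by decide +kernel

theorem o1_ents : ∀ i < 28160, (o1.chkEnt actA ws0 31502) i = true :=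
  of_blocks (size := 2048) (b := 14) (by decide) (by decide) fun j hj => by
    interval_cases j
    · exact o1_ents_b0
    · exact o1_ents_b1
    · exact o1_ents_b2
    · exact o1_ents_b3
    · exact o1_ents_b4
    · exact o1_ents_b5
    · exact o1_ents_b6
    · exact o1_ents_b7
    · exact o1_ents_b8
    · exact o1_ents_b9
    · exact o1_ents_b10
    · exact o1_ents_b11
    · exact o1_ents_b12
    · exact o1_ents_b13

theorem o1_ok : o1.Ok actA ws0 31502 where
  letters := by decide +kernel
  pos := by decide +kernel
  ents := o1_ents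


end Cfsg.Agent.Fus.Fi23Out
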