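import Cfsg.Agent.Lib.Fus.Fi23Out.TreeData

/-! Checks of orbits. -/

set_option autoImplicit false
set_option maxRecDepth 100000
set_option maxHeartbeats 4000000

open Cfsg.Agent.Spor.Cos Cfsg.Agent.Spor.Cos.Triple Cfsg.Agent.Fus.Transp

namespace Cfsg.Agent.Fus.Fi23Out

open Cfsg.Agent.Spor.Cos.Fi23 (actA)

theorem o2_ents_b0 : allBlock (o2.chkEnt actA ws1 31503) 3159 2048 0 = true := by decide +kernel

theorem o2_ents_b1 : allBlock (o2.chkEnt actA ws1 31503) 3159 2048 1 = true := by decide +kernel

theorem o2_ents : ∀ i < 3159, (o2.chkEnt actA ws1 31503) i = true :=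
  of_blocks (size := 2048) (b := 2) (by decide) (by decide) fun j hj => by
    interval_cases j
    · exact o2_ents_b0
    · exact o2_ents_b1

theorem o2_ok : o2.Ok actA ws1 31503 where
  letters := by decide +kernel
  pos := by decide +kernel
  ents := o2_ents

theorem o24_ents_b0 : allBlock (o24.chkEnt actA ws1 31670) 1 2048 0 = true := by decide +kernel

theorem o24_ents : ∀ i < 1, (o24.chkEnt actA ws1 31670) i = true :=
  of_blocks (size := 2048) (b := 1) (by decide) (by decide) fun j hj => by
    interval_cases j
    · exact o24_ents_b0

theorem o24_ok : o24.Ok actA ws1 31670 where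
  letters := by decide +kernel
  pos := by decide +kernel
  ents := o24_ents

theorem o3_ents_b0 : allBlock (o3.chkEnt actA ws2 31510) 288 2048 0 = true := by decide +kernel

theorem o3_ents : ∀ i < 288, (o3.chkEnt actA ws2 31510) i = true :=
  of_blocks (size := 2048) (b := 1) (by decide) (by decide) fun j hj => by
    interval_cases j
    · exact o3_ents_b0

theorem o3_ok : o3.Ok actA ws2 31510 where
  letters := by decide +kernel
  pos := by decide +kernel
  ents := o3_ents

theorem o4_ents_b0 : allBlock (o4.chkEnt actA ws3 31497) 35 2048 0 = true := by decide +kernel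

theorem o4_ents : ∀ i < 35, (o4.chkEnt actA ws3 31497) i = true :=
  of_blocks (size := 2048) (b := 1) (by decide) (by decide) fun j hj => by
    interval_cases j
    · exact o4_ents_b0

theorem o4_ok : o4.Ok actA ws3 31497 where
  letters := by decide +kernel
  pos := by decide +kernel
  ents := o4_ents

theorem o19_ents_b0 : allBlock (o19.chkEnt actA ws3 2399) 7 2048 0 = true := by decide +kernel

theorem o19_ents : ∀ i < 7, (o19.chkEnt actA ws3 2399) i = true :=
  of_blocks (size := 2048) (b := 1) (by decide) (by decide) fun j hj => by
    interval_cases j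
    · exact o19_ents_b0

theorem o19_ok : o19.Ok actA ws3 2399 where
  letters := by decide +kernel
  pos := by decide +kernel
  ents := o19_ents

theorem o5_ents_b0 : allBlock (o5.chkEnt actA ws4 31657) 3 2048 0 = true := by decide +kernel

theorem o5_ents : ∀ i < 3, (o5.chkEnt actA ws4 31657) i = true :=
  of_blocks (size := 2048) (b := 1) (by decide) (by decide) fun j hj => by
    interval_cases j
    · exact o5_ents_b0

theorem o5_ok : o5.Ok actA ws4 31657 where
  letters := by decide +kernel
  pos := by decide +kernel
  ents := o5_ents

theorem o10_ents_b0 : allBlock (o10.chkEnt actA ws4 1562) 18 2048 0 = true := by decide +kernel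

theorem o10_ents : ∀ i < 18, (o10.chkEnt actA ws4 1562) i = true :=
  of_blocks (size := 2048) (b := 1) (by decide) (by decide) fun j hj => by
    interval_cases j
    · exact o10_ents_b0

theorem o10_ok : o10.Ok actA ws4 1562 where
  letters := by decide +kernel
  pos := by decide +kernel
  ents := o10_ents

theorem o18_ents_b0 : allBlock (o18.chkEnt actA ws4 31497) 1 2048 0 = true := by decide +kernel

theorem o18_ents : ∀ i < 1, (o18.chkEnt actA ws4 31497) i = true :=
  of_blocks (size := 2048) (b := 1) (by decide) (by decide) fun j hj => by
    interval_cases j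
    · exact o18_ents_b0

theorem o18_ok : o18.Ok actA ws4 31497 where
  letters := by decide +kernel
  pos := by decide +kernel
  ents := o18_ents

theorem o6_ents_b0 : allBlock (o6.chkEnt actA ws5 31422) 8 2048 0 = true := by decide +kernel

theorem o6_ents : ∀ i < 8, (o6.chkEnt actA ws5 31422) i = true :=
  of_blocks (size := 2048) (b := 1) (by decide) (by decide) fun j hj => by
    interval_cases j
    · exact o6_ents_b0

theorem o6_ok : o6.Ok actA ws5 31422 where
  letters := by decide +kernel
  pos := by decide +kernel
  ents := o6_ents

theorem o7_ents_b0 : allBlock (o7.chkEnt actA ws6 31669) 1 2048 0 = true := by decide +kernel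

theorem o7_ents : ∀ i < 1, (o7.chkEnt actA ws6 31669) i = true :=
  of_blocks (size := 2048) (b := 1) (by decide) (by decide) fun j hj => by
    interval_cases j
    · exact o7_ents_b0

theorem o7_ok : o7.Ok actA ws6 31669 where
  letters := by decide +kernel
  pos := by decide +kernel
  ents := o7_ents

theorem o8_ents_b0 : allBlock (o8.chkEnt actA ws7 11291) 3 2048 0 = true := by decide +kernel

theorem o8_ents : ∀ i < 3, (o8.chkEnt actA ws7 11291) i = true :=
  of_blocks (size := 2048) (b := 1) (by decide) (by decide) fun j hj => by
    interval_cases j
    · exact o8_ents_b0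

theorem o8_ok : o8.Ok actA ws7 11291 where
  letters := by decide +kernel
  pos := by decide +kernel
  ents := o8_ents

theorem o9_ents_b0 : allBlock (o9.chkEnt actA ws8 31421) 2 2048 0 = true := by decide +kernel

theorem o9_ents : ∀ i < 2, (o9.chkEnt actA ws8 31421) i = true :=
  of_blocks (size := 2048) (b := 1) (by decide) (by decide) fun j hj => by
    interval_cases j
    · exact o9_ents_b0

theorem o9_ok : o9.Ok actA ws8 31421 where
  letters := by decide +kernel
  pos := by decide +kernel
  ents := o9_ents

theorem o11_ents_b0 : allBlock (o11.chkEnt actA ws10 2398) 2 2048 0 = true := by decide +kernel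

theorem o11_ents : ∀ i < 2, (o11.chkEnt actA ws10 2398) i = true :=
  of_blocks (size := 2048) (b := 1) (by decide) (by decide) fun j hj => by
    interval_cases j
    · exact o11_ents_b0

theorem o11_ok : o11.Ok actA ws10 2398 where
  letters := by decide +kernel
  pos := by decide +kernel
  ents := o11_ents

theorem o13_ents_b0 : allBlock (o13.chkEnt actA ws10 10443) 4 2048 0 = true := by decide +kernel

theorem o13_ents : ∀ i < 4, (o13.chkEnt actA ws10 10443) i = true :=
  of_blocks (size := 2048) (b := 1) (by decide) (by decide) fun j hj => by
    interval_cases j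
    · exact o13_ents_b0

theorem o13_ok : o13.Ok actA ws10 10443 where
  letters := by decide +kernel
  pos := by decide +kernel
  ents := o13_ents

theorem o12_ents_b0 : allBlock (o12.chkEnt actA ws11 10444) 2 2048 0 = true := by decide +kernel

theorem o12_ents : ∀ i < 2, (o12.chkEnt actA ws11 10444) i = true :=
  of_blocks (size := 2048) (b := 1) (by decide) (by decide) fun j hj => by
    interval_cases j
    · exact o12_ents_b0

theorem o12_ok : o12.Ok actA ws11 10444 where
  letters := by decide +kernel
  pos := by decide +kernel
  ents := o12_ents

theorem o14_ents_b0 : allBlock (o14.chkEnt actA ws13 31669) 1 2048 0 = true := by decide +kernel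

theorem o14_ents : ∀ i < 1, (o14.chkEnt actA ws13 31669) i = true :=
  of_blocks (size := 2048) (b := 1) (by decide) (by decide) fun j hj => by
    interval_cases j
    · exact o14_ents_b0

theorem o14_ok : o14.Ok actA ws13 31669 where
  letters := by decide +kernel
  pos := by decide +kernel
  ents := o14_ents

theorem o16_ents_b0 : allBlock (o16.chkEnt actA ws13 1) 2 2048 0 = true := by decide +kernel

theorem o16_ents : ∀ i < 2, (o16.chkEnt actA ws13 1) i = true :=
  of_blocks (size := 2048) (b := 1) (by decide) (by decide) fun j hj => by
    interval_cases j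
    · exact o16_ents_b0

theorem o16_ok : o16.Ok actA ws13 1 where
  letters := by decide +kernel
  pos := by decide +kernel
  ents := o16_ents

theorem o15_ents_b0 : allBlock (o15.chkEnt actA ws14 31421) 1 2048 0 = true := by decide +kernel

theorem o15_ents : ∀ i < 1, (o15.chkEnt actA ws14 31421) i = true :=
  of_blocks (size := 2048) (b := 1) (by decide) (by decide) fun j hj => by
    interval_cases j
    · exact o15_ents_b0

theorem o15_ok : o15.Ok actA ws14 31421 where
  letters := by decide +kernel
  pos := by decide +kernel
  ents := o15_ents

theorem o17_ents_b0 : allBlock (o17.chkEnt actA ws16 31507) 1 2048 0 = true := by decide +kernel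

theorem o17_ents : ∀ i < 1, (o17.chkEnt actA ws16 31507) i = true :=
  of_blocks (size := 2048) (b := 1) (by decide) (by decide) fun j hj => by
    interval_cases j
    · exact o17_ents_b0

theorem o17_ok : o17.Ok actA ws16 31507 where
  letters := by decide +kernel
  pos := by decide +kernel
  ents := o17_ents

theorem o20_ents_b0 : allBlock (o20.chkEnt actA ws19 4) 15 2048 0 = true := by decide +kernel

theorem o20_ents : ∀ i < 15, (o20.chkEnt actA ws19 4) i = true :=
  of_blocks (size := 2048) (b := 1) (by decide) (by decide) fun j hj => by
    interval_cases j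
    · exact o20_ents_b0

theorem o20_ok : o20.Ok actA ws19 4 where
  letters := by decide +kernel
  pos := by decide +kernel
  ents := o20_ents

theorem o23_ents_b0 : allBlock (o23.chkEnt actA ws19 2399) 1 2048 0 = true := by decide +kernel

theorem o23_ents : ∀ i < 1, (o23.chkEnt actA ws19 2399) i = true :=
  of_blocks (size := 2048) (b := 1) (by decide) (by decide) fun j hj => by
    interval_cases j
    · exact o23_ents_b0

theorem o23_ok : o23.Ok actA ws19 2399 where
  letters := by decide +kernel
  pos := by decide +kernel
  ents := o23_ents

theorem o21_ents_b0 : allBlock (o21.chkEnt actA ws20 1561) 2 2048 0 = true := by decide +kernel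

theorem o21_ents : ∀ i < 2, (o21.chkEnt actA ws20 1561) i = true :=
  of_blocks (size := 2048) (b := 1) (by decide) (by decide) fun j hj => by
    interval_cases j
    · exact o21_ents_b0

theorem o21_ok : o21.Ok actA ws20 1561 where
  letters := by decide +kernel
  pos := by decide +kernel
  ents := o21_ents

theorem o22_ents_b0 : allBlock (o22.chkEnt actA ws21 11340) 4 2048 0 = true := by decide +kernel

theorem o22_ents : ∀ i < 4, (o22.chkEnt actA ws21 11340) i = true :=
  of_blocks (size := 2048) (b := 1) (by decide) (by decide) fun j hj => by
    interval_cases j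
    · exact o22_ents_b0

theorem o22_ok : o22.Ok actA ws21 11340 where
  letters := by decide +kernel
  pos := by decide +kernel
  ents := o22_ents


end Cfsg.Agent.Fus.Fi23Out
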