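import Cfsg.Agent.Lib.Fus.Fi23Out.TreeData
import Cfsg.Agent.Lib.Fus.Fi23Out.ClassData
import Cfsg.Agent.Lib.Spor.Cos.Fi23.ActAData

/-! Checks of tuples. -/

set_option autoImplicit false
set_option maxRecDepth 100000
set_option maxHeartbeats 4000000

open Cfsg.Agent.Spor.Cos Cfsg.Agent.Spor.Cos.Triple Cfsg.Agent.Fus.Transp

namespace Cfsg.Agent.Fus.Fi23Out

open Cfsg.Agent.Spor.Cos.Fi23 (actA)

theorem scan0_b0 : allBlock (chkScan actA qs asg0 1 kids0) 31671 2048 0 = true := by decide +kernel

theorem scan0_b1 : allBlock (chkScan actA qs asg0 1 kids0) 31671 2048 1 = true := by decide +kernel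

theorem scan0_b2 : allBlock (chkScan actA qs asg0 1 kids0) 31671 2048 2 = true := by decide +kernel

theorem scan0_b3 : allBlock (chkScan actA qs asg0 1 kids0) 31671 2048 3 = true := by decide +kernel

theorem scan0_b4 : allBlock (chkScan actA qs asg0 1 kids0) 31671 2048 4 = true := by decide +kernel

theorem scan0_b5 : allBlock (chkScan actA qs asg0 1 kids0) 31671 2048 5 = true := by decide +kernel

theorem scan0_b6 : allBlock (chkScan actA qs asg0 1 kids0) 31671 2048 6 = true := by decide +kernel

theorem scan0_b7 : allBlock (chkScan actA qs asg0 1 kids0) 31671 2048 7 = true := by decide +kernel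

theorem scan0_b8 : allBlock (chkScan actA qs asg0 1 kids0) 31671 2048 8 = true := by decide +kernel

theorem scan0_b9 : allBlock (chkScan actA qs asg0 1 kids0) 31671 2048 9 = true := by decide +kernel

theorem scan0_b10 : allBlock (chkScan actA qs asg0 1 kids0) 31671 2048 10 = true := by decide +kernel

theorem scan0_b11 : allBlock (chkScan actA qs asg0 1 kids0) 31671 2048 11 = true := by decide +kernel

theorem scan0_b12 : allBlock (chkScan actA qs asg0 1 kids0) 31671 2048 12 = true := by decide +kernel

theorem scan0_b13 : allBlock (chkScan actA qs asg0 1 kids0) 31671 2048 13 = true := by decide +kernel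

theorem scan0_b14 : allBlock (chkScan actA qs asg0 1 kids0) 31671 2048 14 = true := by decide +kernel

theorem scan0_b15 : allBlock (chkScan actA qs asg0 1 kids0) 31671 2048 15 = true := by decide +kernel

theorem scan0 : ∀ i < 31671, (chkScan actA qs asg0 1 kids0) i = true :=
  of_blocks (size := 2048) (b := 16) (by decide) (by decide) fun j hj => by
    interval_cases j
    · exact scan0_b0
    · exact scan0_b1
    · exact scan0_b2
    · exact scan0_b3
    · exact scan0_b4
    · exact scan0_b5
    · exact scan0_b6
    · exact scan0_b7
    · exact scan0_b8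
    · exact scan0_b9
    · exact scan0_b10
    · exact scan0_b11
    · exact scan0_b12
    · exact scan0_b13
    · exact scan0_b14
    · exact scan0_b15

theorem scan1_b0 : allBlock (chkScan actA qs asg1 2 kids1) 31671 2048 0 = true := by decide +kernel

theorem scan1_b1 : allBlock (chkScan actA qs asg1 2 kids1) 31671 2048 1 = true := by decide +kernel

theorem scan1_b2 : allBlock (chkScan actA qs asg1 2 kids1) 31671 2048 2 = true := by decide +kernel

theorem scan1_b3 : allBlock (chkScan actA qs asg1 2 kids1) 31671 2048 3 = true := by decide +kernel

theorem scan1_b4 : allBlock (chkScan actA qs asg1 2 kids1) 31671 2048 4 = true := by decide +kernel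

theorem scan1_b5 : allBlock (chkScan actA qs asg1 2 kids1) 31671 2048 5 = true := by decide +kernel

theorem scan1_b6 : allBlock (chkScan actA qs asg1 2 kids1) 31671 2048 6 = true := by decide +kernel

theorem scan1_b7 : allBlock (chkScan actA qs asg1 2 kids1) 31671 2048 7 = true := by decide +kernel

theorem scan1_b8 : allBlock (chkScan actA qs asg1 2 kids1) 31671 2048 8 = true := by decide +kernel

theorem scan1_b9 : allBlock (chkScan actA qs asg1 2 kids1) 31671 2048 9 = true := by decide +kernel

theorem scan1_b10 : allBlock (chkScan actA qs asg1 2 kids1) 31671 2048 10 = true := by decide +kernel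

theorem scan1_b11 : allBlock (chkScan actA qs asg1 2 kids1) 31671 2048 11 = true := by decide +kernel

theorem scan1_b12 : allBlock (chkScan actA qs asg1 2 kids1) 31671 2048 12 = true := by decide +kernel

theorem scan1_b13 : allBlock (chkScan actA qs asg1 2 kids1) 31671 2048 13 = true := by decide +kernel

theorem scan1_b14 : allBlock (chkScan actA qs asg1 2 kids1) 31671 2048 14 = true := by decide +kernel

theorem scan1_b15 : allBlock (chkScan actA qs asg1 2 kids1) 31671 2048 15 = true := by decide +kernel

theorem scan1 : ∀ i < 31671, (chkScan actA qs asg1 2 kids1) i = true :=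
  of_blocks (size := 2048) (b := 16) (by decide) (by decide) fun j hj => by
    interval_cases j
    · exact scan1_b0
    · exact scan1_b1
    · exact scan1_b2
    · exact scan1_b3
    · exact scan1_b4
    · exact scan1_b5
    · exact scan1_b6
    · exact scan1_b7
    · exact scan1_b8
    · exact scan1_b9
    · exact scan1_b10
    · exact scan1_b11
    · exact scan1_b12
    · exact scan1_b13
    · exact scan1_b14
    · exact scan1_b15

theorem scan2_b0 : allBlock (chkScan actA qs asg2 3 kids2) 31671 2048 0 = true := by decide +kernel

theorem scan2_b1 : allBlock (chkScan actA qs asg2 3 kids2) 31671 2048 1 = true := by decide +kernel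

theorem scan2_b2 : allBlock (chkScan actA qs asg2 3 kids2) 31671 2048 2 = true := by decide +kernel

theorem scan2_b3 : allBlock (chkScan actA qs asg2 3 kids2) 31671 2048 3 = true := by decide +kernel

theorem scan2_b4 : allBlock (chkScan actA qs asg2 3 kids2) 31671 2048 4 = true := by decide +kernel

theorem scan2_b5 : allBlock (chkScan actA qs asg2 3 kids2) 31671 2048 5 = true := by decide +kernel

theorem scan2_b6 : allBlock (chkScan actA qs asg2 3 kids2) 31671 2048 6 = true := by decide +kernel

theorem scan2_b7 : allBlock (chkScan actA qs asg2 3 kids2) 31671 2048 7 = true := by decide +kernel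

theorem scan2_b8 : allBlock (chkScan actA qs asg2 3 kids2) 31671 2048 8 = true := by decide +kernel

theorem scan2_b9 : allBlock (chkScan actA qs asg2 3 kids2) 31671 2048 9 = true := by decide +kernel

theorem scan2_b10 : allBlock (chkScan actA qs asg2 3 kids2) 31671 2048 10 = true := by decide +kernel

theorem scan2_b11 : allBlock (chkScan actA qs asg2 3 kids2) 31671 2048 11 = true := by decide +kernel

theorem scan2_b12 : allBlock (chkScan actA qs asg2 3 kids2) 31671 2048 12 = true := by decide +kernel

theorem scan2_b13 : allBlock (chkScan actA qs asg2 3 kids2) 31671 2048 13 = true := by decide +kernel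

theorem scan2_b14 : allBlock (chkScan actA qs asg2 3 kids2) 31671 2048 14 = true := by decide +kernel

theorem scan2_b15 : allBlock (chkScan actA qs asg2 3 kids2) 31671 2048 15 = true := by decide +kernel

theorem scan2 : ∀ i < 31671, (chkScan actA qs asg2 3 kids2) i = true :=
  of_blocks (size := 2048) (b := 16) (by decide) (by decide) fun j hj => by
    interval_cases j
    · exact scan2_b0
    · exact scan2_b1
    · exact scan2_b2
    · exact scan2_b3
    · exact scan2_b4
    · exact scan2_b5
    · exact scan2_b6
    · exact scan2_b7
    · exact scan2_b8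
    · exact scan2_b9
    · exact scan2_b10
    · exact scan2_b11
    · exact scan2_b12
    · exact scan2_b13
    · exact scan2_b14
    · exact scan2_b15

theorem scan3_b0 : allBlock (chkScan actA qs asg3 4 kids3) 31671 2048 0 = true := by decide +kernel

theorem scan3_b1 : allBlock (chkScan actA qs asg3 4 kids3) 31671 2048 1 = true := by decide +kernel

theorem scan3_b2 : allBlock (chkScan actA qs asg3 4 kids3) 31671 2048 2 = true := by decide +kernel

theorem scan3_b3 : allBlock (chkScan actA qs asg3 4 kids3) 31671 2048 3 = true := by decide +kernel

theorem scan3_b4 : allBlock (chkScan actA qs asg3 4 kids3) 31671 2048 4 = true := by decide +kernel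

theorem scan3_b5 : allBlock (chkScan actA qs asg3 4 kids3) 31671 2048 5 = true := by decide +kernel

theorem scan3_b6 : allBlock (chkScan actA qs asg3 4 kids3) 31671 2048 6 = true := by decide +kernel

theorem scan3_b7 : allBlock (chkScan actA qs asg3 4 kids3) 31671 2048 7 = true := by decide +kernel

theorem scan3_b8 : allBlock (chkScan actA qs asg3 4 kids3) 31671 2048 8 = true := by decide +kernel

theorem scan3_b9 : allBlock (chkScan actA qs asg3 4 kids3) 31671 2048 9 = true := by decide +kernel

theorem scan3_b10 : allBlock (chkScan actA qs asg3 4 kids3) 31671 2048 10 = true := by decide +kernel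

theorem scan3_b11 : allBlock (chkScan actA qs asg3 4 kids3) 31671 2048 11 = true := by decide +kernel

theorem scan3_b12 : allBlock (chkScan actA qs asg3 4 kids3) 31671 2048 12 = true := by decide +kernel

theorem scan3_b13 : allBlock (chkScan actA qs asg3 4 kids3) 31671 2048 13 = true := by decide +kernel

theorem scan3_b14 : allBlock (chkScan actA qs asg3 4 kids3) 31671 2048 14 = true := by decide +kernel

theorem scan3_b15 : allBlock (chkScan actA qs asg3 4 kids3) 31671 2048 15 = true := by decide +kernel

theorem scan3 : ∀ i < 31671, (chkScan actA qs asg3 4 kids3) i = true :=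
  of_blocks (size := 2048) (b := 16) (by decide) (by decide) fun j hj => by
    interval_cases j
    · exact scan3_b0
    · exact scan3_b1
    · exact scan3_b2
    · exact scan3_b3
    · exact scan3_b4
    · exact scan3_b5
    · exact scan3_b6
    · exact scan3_b7
    · exact scan3_b8
    · exact scan3_b9
    · exact scan3_b10
    · exact scan3_b11
    · exact scan3_b12
    · exact scan3_b13
    · exact scan3_b14
    · exact scan3_b15


end Cfsg.Agent.Fus.Fi23Out
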