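import Cfsg.Agent.Lib.Fus.Fi23Out.TreeData
import Cfsg.Agent.Lib.Fus.Fi23Out.ClassData
import Cfsg.Agent.Lib.Spor.Cos.Fi23.ActAData

/-! Checks of tuples. -/

set_option autoImplicit false
set_option maxRecDepth 100000
set_option maxHeartbeats 4000000

open Cfsg.Agent.Spor.Cos Cfsg.Agent.Spor.Cos.Triple Cfsg.Agent.Fus.Transp

namespace Cfsg.Agent.Fus.Fi23Out

open Cfsg.Agent.Spor.Cos.Fi23 (actA)

theorem scan8_b0 : allBlock (chkScan actA qs asg8 7 kids8) 31671 2048 0 = true := by decide +kernel

theorem scan8_b1 : allBlock (chkScan actA qs asg8 7 kids8) 31671 2048 1 = true := by decide +kernel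

theorem scan8_b2 : allBlock (chkScan actA qs asg8 7 kids8) 31671 2048 2 = true := by decide +kernel

theorem scan8_b3 : allBlock (chkScan actA qs asg8 7 kids8) 31671 2048 3 = true := by decide +kernel

theorem scan8_b4 : allBlock (chkScan actA qs asg8 7 kids8) 31671 2048 4 = true := by decide +kernel

theorem scan8_b5 : allBlock (chkScan actA qs asg8 7 kids8) 31671 2048 5 = true := by decide +kernel

theorem scan8_b6 : allBlock (chkScan actA qs asg8 7 kids8) 31671 2048 6 = true := by decide +kernel

theorem scan8_b7 : allBlock (chkScan actA qs asg8 7 kids8) 31671 2048 7 = true := by decide +kernel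

theorem scan8_b8 : allBlock (chkScan actA qs asg8 7 kids8) 31671 2048 8 = true := by decide +kernel

theorem scan8_b9 : allBlock (chkScan actA qs asg8 7 kids8) 31671 2048 9 = true := by decide +kernel

theorem scan8_b10 : allBlock (chkScan actA qs asg8 7 kids8) 31671 2048 10 = true := by decide +kernel

theorem scan8_b11 : allBlock (chkScan actA qs asg8 7 kids8) 31671 2048 11 = true := by decide +kernel

theorem scan8_b12 : allBlock (chkScan actA qs asg8 7 kids8) 31671 2048 12 = true := by decide +kernel

theorem scan8_b13 : allBlock (chkScan actA qs asg8 7 kids8) 31671 2048 13 = true := by decide +kernel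

theorem scan8_b14 : allBlock (chkScan actA qs asg8 7 kids8) 31671 2048 14 = true := by decide +kernel

theorem scan8_b15 : allBlock (chkScan actA qs asg8 7 kids8) 31671 2048 15 = true := by decide +kernel

theorem scan8 : ∀ i < 31671, (chkScan actA qs asg8 7 kids8) i = true :=
  of_blocks (size := 2048) (b := 16) (by decide) (by decide) fun j hj => by
    interval_cases j
    · exact scan8_b0
    · exact scan8_b1
    · exact scan8_b2
    · exact scan8_b3
    · exact scan8_b4
    · exact scan8_b5
    · exact scan8_b6
    · exact scan8_b7
    · exact scan8_b8
    · exact scan8_b9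
    · exact scan8_b10
    · exact scan8_b11
    · exact scan8_b12
    · exact scan8_b13
    · exact scan8_b14
    · exact scan8_b15

theorem scan10_b0 : allBlock (chkScan actA qs asg10 5 kids10) 31671 2048 0 = true := by decide +kernel

theorem scan10_b1 : allBlock (chkScan actA qs asg10 5 kids10) 31671 2048 1 = true := by decide +kernel

theorem scan10_b2 : allBlock (chkScan actA qs asg10 5 kids10) 31671 2048 2 = true := by decide +kernel

theorem scan10_b3 : allBlock (chkScan actA qs asg10 5 kids10) 31671 2048 3 = true := by decide +kernel

theorem scan10_b4 : allBlock (chkScan actA qs asg10 5 kids10) 31671 2048 4 = true := by decide +kernel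

theorem scan10_b5 : allBlock (chkScan actA qs asg10 5 kids10) 31671 2048 5 = true := by decide +kernel

theorem scan10_b6 : allBlock (chkScan actA qs asg10 5 kids10) 31671 2048 6 = true := by decide +kernel

theorem scan10_b7 : allBlock (chkScan actA qs asg10 5 kids10) 31671 2048 7 = true := by decide +kernel

theorem scan10_b8 : allBlock (chkScan actA qs asg10 5 kids10) 31671 2048 8 = true := by decide +kernel

theorem scan10_b9 : allBlock (chkScan actA qs asg10 5 kids10) 31671 2048 9 = true := by decide +kernel

theorem scan10_b10 : allBlock (chkScan actA qs asg10 5 kids10) 31671 2048 10 = true := by decide +kernel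

theorem scan10_b11 : allBlock (chkScan actA qs asg10 5 kids10) 31671 2048 11 = true := by decide +kernel

theorem scan10_b12 : allBlock (chkScan actA qs asg10 5 kids10) 31671 2048 12 = true := by decide +kernel

theorem scan10_b13 : allBlock (chkScan actA qs asg10 5 kids10) 31671 2048 13 = true := by decide +kernel

theorem scan10_b14 : allBlock (chkScan actA qs asg10 5 kids10) 31671 2048 14 = true := by decide +kernel

theorem scan10_b15 : allBlock (chkScan actA qs asg10 5 kids10) 31671 2048 15 = true := by decide +kernel

theorem scan10 : ∀ i < 31671, (chkScan actA qs asg10 5 kids10) i = true :=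
  of_blocks (size := 2048) (b := 16) (by decide) (by decide) fun j hj => by
    interval_cases j
    · exact scan10_b0
    · exact scan10_b1
    · exact scan10_b2
    · exact scan10_b3
    · exact scan10_b4
    · exact scan10_b5
    · exact scan10_b6
    · exact scan10_b7
    · exact scan10_b8
    · exact scan10_b9
    · exact scan10_b10
    · exact scan10_b11
    · exact scan10_b12
    · exact scan10_b13
    · exact scan10_b14
    · exact scan10_b15

theorem scan11_b0 : allBlock (chkScan actA qs asg11 9 kids11) 31671 2048 0 = true := by decide +kernel

theorem scan11_b1 : allBlock (chkScan actA qs asg11 9 kids11) 31671 2048 1 = true := by decide +kernel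

theorem scan11_b2 : allBlock (chkScan actA qs asg11 9 kids11) 31671 2048 2 = true := by decide +kernel

theorem scan11_b3 : allBlock (chkScan actA qs asg11 9 kids11) 31671 2048 3 = true := by decide +kernel

theorem scan11_b4 : allBlock (chkScan actA qs asg11 9 kids11) 31671 2048 4 = true := by decide +kernel

theorem scan11_b5 : allBlock (chkScan actA qs asg11 9 kids11) 31671 2048 5 = true := by decide +kernel

theorem scan11_b6 : allBlock (chkScan actA qs asg11 9 kids11) 31671 2048 6 = true := by decide +kernel

theorem scan11_b7 : allBlock (chkScan actA qs asg11 9 kids11) 31671 2048 7 = true := by decide +kernel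

theorem scan11_b8 : allBlock (chkScan actA qs asg11 9 kids11) 31671 2048 8 = true := by decide +kernel

theorem scan11_b9 : allBlock (chkScan actA qs asg11 9 kids11) 31671 2048 9 = true := by decide +kernel

theorem scan11_b10 : allBlock (chkScan actA qs asg11 9 kids11) 31671 2048 10 = true := by decide +kernel

theorem scan11_b11 : allBlock (chkScan actA qs asg11 9 kids11) 31671 2048 11 = true := by decide +kernel

theorem scan11_b12 : allBlock (chkScan actA qs asg11 9 kids11) 31671 2048 12 = true := by decide +kernel

theorem scan11_b13 : allBlock (chkScan actA qs asg11 9 kids11) 31671 2048 13 = true := by decide +kernel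

theorem scan11_b14 : allBlock (chkScan actA qs asg11 9 kids11) 31671 2048 14 = true := by decide +kernel

theorem scan11_b15 : allBlock (chkScan actA qs asg11 9 kids11) 31671 2048 15 = true := by decide +kernel

theorem scan11 : ∀ i < 31671, (chkScan actA qs asg11 9 kids11) i = true :=
  of_blocks (size := 2048) (b := 16) (by decide) (by decide) fun j hj => by
    interval_cases j
    · exact scan11_b0
    · exact scan11_b1
    · exact scan11_b2
    · exact scan11_b3
    · exact scan11_b4
    · exact scan11_b5
    · exact scan11_b6
    · exact scan11_b7
    · exact scan11_b8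
    · exact scan11_b9
    · exact scan11_b10
    · exact scan11_b11
    · exact scan11_b12
    · exact scan11_b13
    · exact scan11_b14
    · exact scan11_b15

theorem scan12_b0 : allBlock (chkScan actA qs asg12 6 kids12) 31671 2048 0 = true := by decide +kernel

theorem scan12_b1 : allBlock (chkScan actA qs asg12 6 kids12) 31671 2048 1 = true := by decide +kernel

theorem scan12_b2 : allBlock (chkScan actA qs asg12 6 kids12) 31671 2048 2 = true := by decide +kernel

theorem scan12_b3 : allBlock (chkScan actA qs asg12 6 kids12) 31671 2048 3 = true := by decide +kernel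

theorem scan12_b4 : allBlock (chkScan actA qs asg12 6 kids12) 31671 2048 4 = true := by decide +kernel

theorem scan12_b5 : allBlock (chkScan actA qs asg12 6 kids12) 31671 2048 5 = true := by decide +kernel

theorem scan12_b6 : allBlock (chkScan actA qs asg12 6 kids12) 31671 2048 6 = true := by decide +kernel

theorem scan12_b7 : allBlock (chkScan actA qs asg12 6 kids12) 31671 2048 7 = true := by decide +kernel

theorem scan12_b8 : allBlock (chkScan actA qs asg12 6 kids12) 31671 2048 8 = true := by decide +kernel

theorem scan12_b9 : allBlock (chkScan actA qs asg12 6 kids12) 31671 2048 9 = true := by decide +kernel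

theorem scan12_b10 : allBlock (chkScan actA qs asg12 6 kids12) 31671 2048 10 = true := by decide +kernel

theorem scan12_b11 : allBlock (chkScan actA qs asg12 6 kids12) 31671 2048 11 = true := by decide +kernel

theorem scan12_b12 : allBlock (chkScan actA qs asg12 6 kids12) 31671 2048 12 = true := by decide +kernel

theorem scan12_b13 : allBlock (chkScan actA qs asg12 6 kids12) 31671 2048 13 = true := by decide +kernel

theorem scan12_b14 : allBlock (chkScan actA qs asg12 6 kids12) 31671 2048 14 = true := by decide +kernel

theorem scan12_b15 : allBlock (chkScan actA qs asg12 6 kids12) 31671 2048 15 = true := by decide +kernel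

theorem scan12 : ∀ i < 31671, (chkScan actA qs asg12 6 kids12) i = true :=
  of_blocks (size := 2048) (b := 16) (by decide) (by decide) fun j hj => by
    interval_cases j
    · exact scan12_b0
    · exact scan12_b1
    · exact scan12_b2
    · exact scan12_b3
    · exact scan12_b4
    · exact scan12_b5
    · exact scan12_b6
    · exact scan12_b7
    · exact scan12_b8
    · exact scan12_b9
    · exact scan12_b10
    · exact scan12_b11
    · exact scan12_b12
    · exact scan12_b13
    · exact scan12_b14
    · exact scan12_b15


end Cfsg.Agent.Fus.Fi23Out
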