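import Cfsg.Agent.Lib.Fus.Fi23Out.TreeData
import Cfsg.Agent.Lib.Fus.Fi23Out.ClassData
import Cfsg.Agent.Lib.Spor.Cos.Fi23.ActAData

/-! Checks of tuples. -/

set_option autoImplicit false
set_option maxRecDepth 100000
set_option maxHeartbeats 4000000

open Cfsg.Agent.Spor.Cos Cfsg.Agent.Spor.Cos.Triple Cfsg.Agent.Fus.Transp

namespace Cfsg.Agent.Fus.Fi23Out

open Cfsg.Agent.Spor.Cos.Fi23 (actA)

theorem scan13_b0 : allBlock (chkScan actA qs asg13 9 kids13) 31671 2048 0 = true := by decide +kernel

theorem scan13_b1 : allBlock (chkScan actA qs asg13 9 kids13) 31671 2048 1 = true := by decide +kernel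

theorem scan13_b2 : allBlock (chkScan actA qs asg13 9 kids13) 31671 2048 2 = true := by decide +kernel

theorem scan13_b3 : allBlock (chkScan actA qs asg13 9 kids13) 31671 2048 3 = true := by decide +kernel

theorem scan13_b4 : allBlock (chkScan actA qs asg13 9 kids13) 31671 2048 4 = true := by decide +kernel

theorem scan13_b5 : allBlock (chkScan actA qs asg13 9 kids13) 31671 2048 5 = true := by decide +kernel

theorem scan13_b6 : allBlock (chkScan actA qs asg13 9 kids13) 31671 2048 6 = true := by decide +kernel

theorem scan13_b7 : allBlock (chkScan actA qs asg13 9 kids13) 31671 2048 7 = true := by decide +kernel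

theorem scan13_b8 : allBlock (chkScan actA qs asg13 9 kids13) 31671 2048 8 = true := by decide +kernel

theorem scan13_b9 : allBlock (chkScan actA qs asg13 9 kids13) 31671 2048 9 = true := by decide +kernel

theorem scan13_b10 : allBlock (chkScan actA qs asg13 9 kids13) 31671 2048 10 = true := by decide +kernel

theorem scan13_b11 : allBlock (chkScan actA qs asg13 9 kids13) 31671 2048 11 = true := by decide +kernel

theorem scan13_b12 : allBlock (chkScan actA qs asg13 9 kids13) 31671 2048 12 = true := by decide +kernel

theorem scan13_b13 : allBlock (chkScan actA qs asg13 9 kids13) 31671 2048 13 = true := by decide +kernel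

theorem scan13_b14 : allBlock (chkScan actA qs asg13 9 kids13) 31671 2048 14 = true := by decide +kernel

theorem scan13_b15 : allBlock (chkScan actA qs asg13 9 kids13) 31671 2048 15 = true := by decide +kernel

theorem scan13 : ∀ i < 31671, (chkScan actA qs asg13 9 kids13) i = true :=
  of_blocks (size := 2048) (b := 16) (by decide) (by decide) fun j hj => by
    interval_cases j
    · exact scan13_b0
    · exact scan13_b1
    · exact scan13_b2
    · exact scan13_b3
    · exact scan13_b4
    · exact scan13_b5
    · exact scan13_b6
    · exact scan13_b7
    · exact scan13_b8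
    · exact scan13_b9
    · exact scan13_b10
    · exact scan13_b11
    · exact scan13_b12
    · exact scan13_b13
    · exact scan13_b14
    · exact scan13_b15

theorem scan14_b0 : allBlock (chkScan actA qs asg14 6 kids14) 31671 2048 0 = true := by decide +kernel

theorem scan14_b1 : allBlock (chkScan actA qs asg14 6 kids14) 31671 2048 1 = true := by decide +kernel

theorem scan14_b2 : allBlock (chkScan actA qs asg14 6 kids14) 31671 2048 2 = true := by decide +kernel

theorem scan14_b3 : allBlock (chkScan actA qs asg14 6 kids14) 31671 2048 3 = true := by decide +kernel

theorem scan14_b4 : allBlock (chkScan actA qs asg14 6 kids14) 31671 2048 4 = true := by decide +kernel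

theorem scan14_b5 : allBlock (chkScan actA qs asg14 6 kids14) 31671 2048 5 = true := by decide +kernel

theorem scan14_b6 : allBlock (chkScan actA qs asg14 6 kids14) 31671 2048 6 = true := by decide +kernel

theorem scan14_b7 : allBlock (chkScan actA qs asg14 6 kids14) 31671 2048 7 = true := by decide +kernel

theorem scan14_b8 : allBlock (chkScan actA qs asg14 6 kids14) 31671 2048 8 = true := by decide +kernel

theorem scan14_b9 : allBlock (chkScan actA qs asg14 6 kids14) 31671 2048 9 = true := by decide +kernel

theorem scan14_b10 : allBlock (chkScan actA qs asg14 6 kids14) 31671 2048 10 = true := by decide +kernel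

theorem scan14_b11 : allBlock (chkScan actA qs asg14 6 kids14) 31671 2048 11 = true := by decide +kernel

theorem scan14_b12 : allBlock (chkScan actA qs asg14 6 kids14) 31671 2048 12 = true := by decide +kernel

theorem scan14_b13 : allBlock (chkScan actA qs asg14 6 kids14) 31671 2048 13 = true := by decide +kernel

theorem scan14_b14 : allBlock (chkScan actA qs asg14 6 kids14) 31671 2048 14 = true := by decide +kernel

theorem scan14_b15 : allBlock (chkScan actA qs asg14 6 kids14) 31671 2048 15 = true := by decide +kernel

theorem scan14 : ∀ i < 31671, (chkScan actA qs asg14 6 kids14) i = true :=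
  of_blocks (size := 2048) (b := 16) (by decide) (by decide) fun j hj => by
    interval_cases j
    · exact scan14_b0
    · exact scan14_b1
    · exact scan14_b2
    · exact scan14_b3
    · exact scan14_b4
    · exact scan14_b5
    · exact scan14_b6
    · exact scan14_b7
    · exact scan14_b8
    · exact scan14_b9
    · exact scan14_b10
    · exact scan14_b11
    · exact scan14_b12
    · exact scan14_b13
    · exact scan14_b14
    · exact scan14_b15

theorem scan15_b0 : allBlock (chkScan actA qs asg15 7 kids15) 31671 2048 0 = true := by decide +kernel

theorem scan15_b1 : allBlock (chkScan actA qs asg15 7 kids15) 31671 2048 1 = true := by decide +kernel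

theorem scan15_b2 : allBlock (chkScan actA qs asg15 7 kids15) 31671 2048 2 = true := by decide +kernel

theorem scan15_b3 : allBlock (chkScan actA qs asg15 7 kids15) 31671 2048 3 = true := by decide +kernel

theorem scan15_b4 : allBlock (chkScan actA qs asg15 7 kids15) 31671 2048 4 = true := by decide +kernel

theorem scan15_b5 : allBlock (chkScan actA qs asg15 7 kids15) 31671 2048 5 = true := by decide +kernel

theorem scan15_b6 : allBlock (chkScan actA qs asg15 7 kids15) 31671 2048 6 = true := by decide +kernel

theorem scan15_b7 : allBlock (chkScan actA qs asg15 7 kids15) 31671 2048 7 = true := by decide +kernel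

theorem scan15_b8 : allBlock (chkScan actA qs asg15 7 kids15) 31671 2048 8 = true := by decide +kernel

theorem scan15_b9 : allBlock (chkScan actA qs asg15 7 kids15) 31671 2048 9 = true := by decide +kernel

theorem scan15_b10 : allBlock (chkScan actA qs asg15 7 kids15) 31671 2048 10 = true := by decide +kernel

theorem scan15_b11 : allBlock (chkScan actA qs asg15 7 kids15) 31671 2048 11 = true := by decide +kernel

theorem scan15_b12 : allBlock (chkScan actA qs asg15 7 kids15) 31671 2048 12 = true := by decide +kernel

theorem scan15_b13 : allBlock (chkScan actA qs asg15 7 kids15) 31671 2048 13 = true := by decide +kernel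

theorem scan15_b14 : allBlock (chkScan actA qs asg15 7 kids15) 31671 2048 14 = true := by decide +kernel

theorem scan15_b15 : allBlock (chkScan actA qs asg15 7 kids15) 31671 2048 15 = true := by decide +kernel

theorem scan15 : ∀ i < 31671, (chkScan actA qs asg15 7 kids15) i = true :=
  of_blocks (size := 2048) (b := 16) (by decide) (by decide) fun j hj => by
    interval_cases j
    · exact scan15_b0
    · exact scan15_b1
    · exact scan15_b2
    · exact scan15_b3
    · exact scan15_b4
    · exact scan15_b5
    · exact scan15_b6
    · exact scan15_b7
    · exact scan15_b8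
    · exact scan15_b9
    · exact scan15_b10
    · exact scan15_b11
    · exact scan15_b12
    · exact scan15_b13
    · exact scan15_b14
    · exact scan15_b15

theorem scan16_b0 : allBlock (chkScan actA qs asg16 6 kids16) 31671 2048 0 = true := by decide +kernel

theorem scan16_b1 : allBlock (chkScan actA qs asg16 6 kids16) 31671 2048 1 = true := by decide +kernel

theorem scan16_b2 : allBlock (chkScan actA qs asg16 6 kids16) 31671 2048 2 = true := by decide +kernel

theorem scan16_b3 : allBlock (chkScan actA qs asg16 6 kids16) 31671 2048 3 = true := by decide +kernel

theorem scan16_b4 : allBlock (chkScan actA qs asg16 6 kids16) 31671 2048 4 = true := by decide +kernel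

theorem scan16_b5 : allBlock (chkScan actA qs asg16 6 kids16) 31671 2048 5 = true := by decide +kernel

theorem scan16_b6 : allBlock (chkScan actA qs asg16 6 kids16) 31671 2048 6 = true := by decide +kernel

theorem scan16_b7 : allBlock (chkScan actA qs asg16 6 kids16) 31671 2048 7 = true := by decide +kernel

theorem scan16_b8 : allBlock (chkScan actA qs asg16 6 kids16) 31671 2048 8 = true := by decide +kernel

theorem scan16_b9 : allBlock (chkScan actA qs asg16 6 kids16) 31671 2048 9 = true := by decide +kernel

theorem scan16_b10 : allBlock (chkScan actA qs asg16 6 kids16) 31671 2048 10 = true := by decide +kernel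

theorem scan16_b11 : allBlock (chkScan actA qs asg16 6 kids16) 31671 2048 11 = true := by decide +kernel

theorem scan16_b12 : allBlock (chkScan actA qs asg16 6 kids16) 31671 2048 12 = true := by decide +kernel

theorem scan16_b13 : allBlock (chkScan actA qs asg16 6 kids16) 31671 2048 13 = true := by decide +kernel

theorem scan16_b14 : allBlock (chkScan actA qs asg16 6 kids16) 31671 2048 14 = true := by decide +kernel

theorem scan16_b15 : allBlock (chkScan actA qs asg16 6 kids16) 31671 2048 15 = true := by decide +kernel

theorem scan16 : ∀ i < 31671, (chkScan actA qs asg16 6 kids16) i = true :=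
  of_blocks (size := 2048) (b := 16) (by decide) (by decide) fun j hj => by
    interval_cases j
    · exact scan16_b0
    · exact scan16_b1
    · exact scan16_b2
    · exact scan16_b3
    · exact scan16_b4
    · exact scan16_b5
    · exact scan16_b6
    · exact scan16_b7
    · exact scan16_b8
    · exact scan16_b9
    · exact scan16_b10
    · exact scan16_b11
    · exact scan16_b12
    · exact scan16_b13
    · exact scan16_b14
    · exact scan16_b15


end Cfsg.Agent.Fus.Fi23Out
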