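import Cfsg.Agent.Lib.Fus.Fi23Out.TreeData
import Cfsg.Agent.Lib.Fus.Fi23Out.ClassData
import Cfsg.Agent.Lib.Spor.Cos.Fi23.ActAData

/-! Checks of tuples. -/

set_option autoImplicit false
set_option maxRecDepth 100000
set_option maxHeartbeats 4000000

open Cfsg.Agent.Spor.Cos Cfsg.Agent.Spor.Cos.Triple Cfsg.Agent.Fus.Transp

namespace Cfsg.Agent.Fus.Fi23Out

open Cfsg.Agent.Spor.Cos.Fi23 (actA)

theorem scan17_b0 : allBlock (chkScan actA qs asg17 7 kids17) 31671 2048 0 = true := by decide +kernel

theorem scan17_b1 : allBlock (chkScan actA qs asg17 7 kids17) 31671 2048 1 = true := by decide +kernel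

theorem scan17_b2 : allBlock (chkScan actA qs asg17 7 kids17) 31671 2048 2 = true := by decide +kernel

theorem scan17_b3 : allBlock (chkScan actA qs asg17 7 kids17) 31671 2048 3 = true := by decide +kernel

theorem scan17_b4 : allBlock (chkScan actA qs asg17 7 kids17) 31671 2048 4 = true := by decide +kernel

theorem scan17_b5 : allBlock (chkScan actA qs asg17 7 kids17) 31671 2048 5 = true := by decide +kernel

theorem scan17_b6 : allBlock (chkScan actA qs asg17 7 kids17) 31671 2048 6 = true := by decide +kernel

theorem scan17_b7 : allBlock (chkScan actA qs asg17 7 kids17) 31671 2048 7 = true := by decide +kernel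

theorem scan17_b8 : allBlock (chkScan actA qs asg17 7 kids17) 31671 2048 8 = true := by decide +kernel

theorem scan17_b9 : allBlock (chkScan actA qs asg17 7 kids17) 31671 2048 9 = true := by decide +kernel

theorem scan17_b10 : allBlock (chkScan actA qs asg17 7 kids17) 31671 2048 10 = true := by decide +kernel

theorem scan17_b11 : allBlock (chkScan actA qs asg17 7 kids17) 31671 2048 11 = true := by decide +kernel

theorem scan17_b12 : allBlock (chkScan actA qs asg17 7 kids17) 31671 2048 12 = true := by decide +kernel

theorem scan17_b13 : allBlock (chkScan actA qs asg17 7 kids17) 31671 2048 13 = true := by decide +kernel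

theorem scan17_b14 : allBlock (chkScan actA qs asg17 7 kids17) 31671 2048 14 = true := by decide +kernel

theorem scan17_b15 : allBlock (chkScan actA qs asg17 7 kids17) 31671 2048 15 = true := by decide +kernel

theorem scan17 : ∀ i < 31671, (chkScan actA qs asg17 7 kids17) i = true :=
  of_blocks (size := 2048) (b := 16) (by decide) (by decide) fun j hj => by
    interval_cases j
    · exact scan17_b0
    · exact scan17_b1
    · exact scan17_b2
    · exact scan17_b3
    · exact scan17_b4
    · exact scan17_b5
    · exact scan17_b6
    · exact scan17_b7
    · exact scan17_b8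
    · exact scan17_b9
    · exact scan17_b10
    · exact scan17_b11
    · exact scan17_b12
    · exact scan17_b13
    · exact scan17_b14
    · exact scan17_b15

theorem scan18_b0 : allBlock (chkScan actA qs asg18 5 kids18) 31671 2048 0 = true := by decide +kernel

theorem scan18_b1 : allBlock (chkScan actA qs asg18 5 kids18) 31671 2048 1 = true := by decide +kernel

theorem scan18_b2 : allBlock (chkScan actA qs asg18 5 kids18) 31671 2048 2 = true := by decide +kernel

theorem scan18_b3 : allBlock (chkScan actA qs asg18 5 kids18) 31671 2048 3 = true := by decide +kernel

theorem scan18_b4 : allBlock (chkScan actA qs asg18 5 kids18) 31671 2048 4 = true := by decide +kernel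

theorem scan18_b5 : allBlock (chkScan actA qs asg18 5 kids18) 31671 2048 5 = true := by decide +kernel

theorem scan18_b6 : allBlock (chkScan actA qs asg18 5 kids18) 31671 2048 6 = true := by decide +kernel

theorem scan18_b7 : allBlock (chkScan actA qs asg18 5 kids18) 31671 2048 7 = true := by decide +kernel

theorem scan18_b8 : allBlock (chkScan actA qs asg18 5 kids18) 31671 2048 8 = true := by decide +kernel

theorem scan18_b9 : allBlock (chkScan actA qs asg18 5 kids18) 31671 2048 9 = true := by decide +kernel

theorem scan18_b10 : allBlock (chkScan actA qs asg18 5 kids18) 31671 2048 10 = true := by decide +kernel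

theorem scan18_b11 : allBlock (chkScan actA qs asg18 5 kids18) 31671 2048 11 = true := by decide +kernel

theorem scan18_b12 : allBlock (chkScan actA qs asg18 5 kids18) 31671 2048 12 = true := by decide +kernel

theorem scan18_b13 : allBlock (chkScan actA qs asg18 5 kids18) 31671 2048 13 = true := by decide +kernel

theorem scan18_b14 : allBlock (chkScan actA qs asg18 5 kids18) 31671 2048 14 = true := by decide +kernel

theorem scan18_b15 : allBlock (chkScan actA qs asg18 5 kids18) 31671 2048 15 = true := by decide +kernel

theorem scan18 : ∀ i < 31671, (chkScan actA qs asg18 5 kids18) i = true :=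
  of_blocks (size := 2048) (b := 16) (by decide) (by decide) fun j hj => by
    interval_cases j
    · exact scan18_b0
    · exact scan18_b1
    · exact scan18_b2
    · exact scan18_b3
    · exact scan18_b4
    · exact scan18_b5
    · exact scan18_b6
    · exact scan18_b7
    · exact scan18_b8
    · exact scan18_b9
    · exact scan18_b10
    · exact scan18_b11
    · exact scan18_b12
    · exact scan18_b13
    · exact scan18_b14
    · exact scan18_b15

theorem scan19_b0 : allBlock (chkScan actA qs asg19 8 kids19) 31671 2048 0 = true := by decide +kernel

theorem scan19_b1 : allBlock (chkScan actA qs asg19 8 kids19) 31671 2048 1 = true := by decide +kernel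

theorem scan19_b2 : allBlock (chkScan actA qs asg19 8 kids19) 31671 2048 2 = true := by decide +kernel

theorem scan19_b3 : allBlock (chkScan actA qs asg19 8 kids19) 31671 2048 3 = true := by decide +kernel

theorem scan19_b4 : allBlock (chkScan actA qs asg19 8 kids19) 31671 2048 4 = true := by decide +kernel

theorem scan19_b5 : allBlock (chkScan actA qs asg19 8 kids19) 31671 2048 5 = true := by decide +kernel

theorem scan19_b6 : allBlock (chkScan actA qs asg19 8 kids19) 31671 2048 6 = true := by decide +kernel

theorem scan19_b7 : allBlock (chkScan actA qs asg19 8 kids19) 31671 2048 7 = true := by decide +kernel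

theorem scan19_b8 : allBlock (chkScan actA qs asg19 8 kids19) 31671 2048 8 = true := by decide +kernel

theorem scan19_b9 : allBlock (chkScan actA qs asg19 8 kids19) 31671 2048 9 = true := by decide +kernel

theorem scan19_b10 : allBlock (chkScan actA qs asg19 8 kids19) 31671 2048 10 = true := by decide +kernel

theorem scan19_b11 : allBlock (chkScan actA qs asg19 8 kids19) 31671 2048 11 = true := by decide +kernel

theorem scan19_b12 : allBlock (chkScan actA qs asg19 8 kids19) 31671 2048 12 = true := by decide +kernel

theorem scan19_b13 : allBlock (chkScan actA qs asg19 8 kids19) 31671 2048 13 = true := by decide +kernel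

theorem scan19_b14 : allBlock (chkScan actA qs asg19 8 kids19) 31671 2048 14 = true := by decide +kernel

theorem scan19_b15 : allBlock (chkScan actA qs asg19 8 kids19) 31671 2048 15 = true := by decide +kernel

theorem scan19 : ∀ i < 31671, (chkScan actA qs asg19 8 kids19) i = true :=
  of_blocks (size := 2048) (b := 16) (by decide) (by decide) fun j hj => by
    interval_cases j
    · exact scan19_b0
    · exact scan19_b1
    · exact scan19_b2
    · exact scan19_b3
    · exact scan19_b4
    · exact scan19_b5
    · exact scan19_b6
    · exact scan19_b7
    · exact scan19_b8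
    · exact scan19_b9
    · exact scan19_b10
    · exact scan19_b11
    · exact scan19_b12
    · exact scan19_b13
    · exact scan19_b14
    · exact scan19_b15

theorem scan20_b0 : allBlock (chkScan actA qs asg20 5 kids20) 31671 2048 0 = true := by decide +kernel

theorem scan20_b1 : allBlock (chkScan actA qs asg20 5 kids20) 31671 2048 1 = true := by decide +kernel

theorem scan20_b2 : allBlock (chkScan actA qs asg20 5 kids20) 31671 2048 2 = true := by decide +kernel

theorem scan20_b3 : allBlock (chkScan actA qs asg20 5 kids20) 31671 2048 3 = true := by decide +kernel

theorem scan20_b4 : allBlock (chkScan actA qs asg20 5 kids20) 31671 2048 4 = true := by decide +kernel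

theorem scan20_b5 : allBlock (chkScan actA qs asg20 5 kids20) 31671 2048 5 = true := by decide +kernel

theorem scan20_b6 : allBlock (chkScan actA qs asg20 5 kids20) 31671 2048 6 = true := by decide +kernel

theorem scan20_b7 : allBlock (chkScan actA qs asg20 5 kids20) 31671 2048 7 = true := by decide +kernel

theorem scan20_b8 : allBlock (chkScan actA qs asg20 5 kids20) 31671 2048 8 = true := by decide +kernel

theorem scan20_b9 : allBlock (chkScan actA qs asg20 5 kids20) 31671 2048 9 = true := by decide +kernel

theorem scan20_b10 : allBlock (chkScan actA qs asg20 5 kids20) 31671 2048 10 = true := by decide +kernel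

theorem scan20_b11 : allBlock (chkScan actA qs asg20 5 kids20) 31671 2048 11 = true := by decide +kernel

theorem scan20_b12 : allBlock (chkScan actA qs asg20 5 kids20) 31671 2048 12 = true := by decide +kernel

theorem scan20_b13 : allBlock (chkScan actA qs asg20 5 kids20) 31671 2048 13 = true := by decide +kernel

theorem scan20_b14 : allBlock (chkScan actA qs asg20 5 kids20) 31671 2048 14 = true := by decide +kernel

theorem scan20_b15 : allBlock (chkScan actA qs asg20 5 kids20) 31671 2048 15 = true := by decide +kernel

theorem scan20 : ∀ i < 31671, (chkScan actA qs asg20 5 kids20) i = true :=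
  of_blocks (size := 2048) (b := 16) (by decide) (by decide) fun j hj => by
    interval_cases j
    · exact scan20_b0
    · exact scan20_b1
    · exact scan20_b2
    · exact scan20_b3
    · exact scan20_b4
    · exact scan20_b5
    · exact scan20_b6
    · exact scan20_b7
    · exact scan20_b8
    · exact scan20_b9
    · exact scan20_b10
    · exact scan20_b11
    · exact scan20_b12
    · exact scan20_b13
    · exact scan20_b14
    · exact scan20_b15


end Cfsg.Agent.Fus.Fi23Out
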