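import Cfsg.Agent.Lib.Fus.Fi23Out.TreeData
import Cfsg.Agent.Lib.Fus.Fi23Out.ClassData
import Cfsg.Agent.Lib.Spor.Cos.Fi23.ActAData

/-! Checks of tuples. -/

set_option autoImplicit false
set_option maxRecDepth 100000
set_option maxHeartbeats 4000000

open Cfsg.Agent.Spor.Cos Cfsg.Agent.Spor.Cos.Triple Cfsg.Agent.Fus.Transp

namespace Cfsg.Agent.Fus.Fi23Out

open Cfsg.Agent.Spor.Cos.Fi23 (actA)

theorem scan21_b0 : allBlock (chkScan actA qs asg21 9 kids21) 31671 2048 0 = true := by decide +kernel

theorem scan21_b1 : allBlock (chkScan actA qs asg21 9 kids21) 31671 2048 1 = true := by decide +kernel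

theorem scan21_b2 : allBlock (chkScan actA qs asg21 9 kids21) 31671 2048 2 = true := by decide +kernel

theorem scan21_b3 : allBlock (chkScan actA qs asg21 9 kids21) 31671 2048 3 = true := by decide +kernel

theorem scan21_b4 : allBlock (chkScan actA qs asg21 9 kids21) 31671 2048 4 = true := by decide +kernel

theorem scan21_b5 : allBlock (chkScan actA qs asg21 9 kids21) 31671 2048 5 = true := by decide +kernel

theorem scan21_b6 : allBlock (chkScan actA qs asg21 9 kids21) 31671 2048 6 = true := by decide +kernel

theorem scan21_b7 : allBlock (chkScan actA qs asg21 9 kids21) 31671 2048 7 = true := by decide +kernel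

theorem scan21_b8 : allBlock (chkScan actA qs asg21 9 kids21) 31671 2048 8 = true := by decide +kernel

theorem scan21_b9 : allBlock (chkScan actA qs asg21 9 kids21) 31671 2048 9 = true := by decide +kernel

theorem scan21_b10 : allBlock (chkScan actA qs asg21 9 kids21) 31671 2048 10 = true := by decide +kernel

theorem scan21_b11 : allBlock (chkScan actA qs asg21 9 kids21) 31671 2048 11 = true := by decide +kernel

theorem scan21_b12 : allBlock (chkScan actA qs asg21 9 kids21) 31671 2048 12 = true := by decide +kernel

theorem scan21_b13 : allBlock (chkScan actA qs asg21 9 kids21) 31671 2048 13 = true := by decide +kernel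

theorem scan21_b14 : allBlock (chkScan actA qs asg21 9 kids21) 31671 2048 14 = true := by decide +kernel

theorem scan21_b15 : allBlock (chkScan actA qs asg21 9 kids21) 31671 2048 15 = true := by decide +kernel

theorem scan21 : ∀ i < 31671, (chkScan actA qs asg21 9 kids21) i = true :=
  of_blocks (size := 2048) (b := 16) (by decide) (by decide) fun j hj => by
    interval_cases j
    · exact scan21_b0
    · exact scan21_b1
    · exact scan21_b2
    · exact scan21_b3
    · exact scan21_b4
    · exact scan21_b5
    · exact scan21_b6
    · exact scan21_b7
    · exact scan21_b8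
    · exact scan21_b9
    · exact scan21_b10
    · exact scan21_b11
    · exact scan21_b12
    · exact scan21_b13
    · exact scan21_b14
    · exact scan21_b15

theorem scan22_b0 : allBlock (chkScan actA qs asg22 6 kids22) 31671 2048 0 = true := by decide +kernel

theorem scan22_b1 : allBlock (chkScan actA qs asg22 6 kids22) 31671 2048 1 = true := by decide +kernel

theorem scan22_b2 : allBlock (chkScan actA qs asg22 6 kids22) 31671 2048 2 = true := by decide +kernel

theorem scan22_b3 : allBlock (chkScan actA qs asg22 6 kids22) 31671 2048 3 = true := by decide +kernel

theorem scan22_b4 : allBlock (chkScan actA qs asg22 6 kids22) 31671 2048 4 = true := by decide +kernel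

theorem scan22_b5 : allBlock (chkScan actA qs asg22 6 kids22) 31671 2048 5 = true := by decide +kernel

theorem scan22_b6 : allBlock (chkScan actA qs asg22 6 kids22) 31671 2048 6 = true := by decide +kernel

theorem scan22_b7 : allBlock (chkScan actA qs asg22 6 kids22) 31671 2048 7 = true := by decide +kernel

theorem scan22_b8 : allBlock (chkScan actA qs asg22 6 kids22) 31671 2048 8 = true := by decide +kernel

theorem scan22_b9 : allBlock (chkScan actA qs asg22 6 kids22) 31671 2048 9 = true := by decide +kernel

theorem scan22_b10 : allBlock (chkScan actA qs asg22 6 kids22) 31671 2048 10 = true := by decide +kernel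

theorem scan22_b11 : allBlock (chkScan actA qs asg22 6 kids22) 31671 2048 11 = true := by decide +kernel

theorem scan22_b12 : allBlock (chkScan actA qs asg22 6 kids22) 31671 2048 12 = true := by decide +kernel

theorem scan22_b13 : allBlock (chkScan actA qs asg22 6 kids22) 31671 2048 13 = true := by decide +kernel

theorem scan22_b14 : allBlock (chkScan actA qs asg22 6 kids22) 31671 2048 14 = true := by decide +kernel

theorem scan22_b15 : allBlock (chkScan actA qs asg22 6 kids22) 31671 2048 15 = true := by decide +kernel

theorem scan22 : ∀ i < 31671, (chkScan actA qs asg22 6 kids22) i = true :=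
  of_blocks (size := 2048) (b := 16) (by decide) (by decide) fun j hj => by
    interval_cases j
    · exact scan22_b0
    · exact scan22_b1
    · exact scan22_b2
    · exact scan22_b3
    · exact scan22_b4
    · exact scan22_b5
    · exact scan22_b6
    · exact scan22_b7
    · exact scan22_b8
    · exact scan22_b9
    · exact scan22_b10
    · exact scan22_b11
    · exact scan22_b12
    · exact scan22_b13
    · exact scan22_b14
    · exact scan22_b15

theorem scan23_b0 : allBlock (chkScan actA qs asg23 5 kids23) 31671 2048 0 = true := by decide +kernel

theorem scan23_b1 : allBlock (chkScan actA qs asg23 5 kids23) 31671 2048 1 = true := by decide +kernel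

theorem scan23_b2 : allBlock (chkScan actA qs asg23 5 kids23) 31671 2048 2 = true := by decide +kernel

theorem scan23_b3 : allBlock (chkScan actA qs asg23 5 kids23) 31671 2048 3 = true := by decide +kernel

theorem scan23_b4 : allBlock (chkScan actA qs asg23 5 kids23) 31671 2048 4 = true := by decide +kernel

theorem scan23_b5 : allBlock (chkScan actA qs asg23 5 kids23) 31671 2048 5 = true := by decide +kernel

theorem scan23_b6 : allBlock (chkScan actA qs asg23 5 kids23) 31671 2048 6 = true := by decide +kernel

theorem scan23_b7 : allBlock (chkScan actA qs asg23 5 kids23) 31671 2048 7 = true := by decide +kernel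

theorem scan23_b8 : allBlock (chkScan actA qs asg23 5 kids23) 31671 2048 8 = true := by decide +kernel

theorem scan23_b9 : allBlock (chkScan actA qs asg23 5 kids23) 31671 2048 9 = true := by decide +kernel

theorem scan23_b10 : allBlock (chkScan actA qs asg23 5 kids23) 31671 2048 10 = true := by decide +kernel

theorem scan23_b11 : allBlock (chkScan actA qs asg23 5 kids23) 31671 2048 11 = true := by decide +kernel

theorem scan23_b12 : allBlock (chkScan actA qs asg23 5 kids23) 31671 2048 12 = true := by decide +kernel

theorem scan23_b13 : allBlock (chkScan actA qs asg23 5 kids23) 31671 2048 13 = true := by decide +kernel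

theorem scan23_b14 : allBlock (chkScan actA qs asg23 5 kids23) 31671 2048 14 = true := by decide +kernel

theorem scan23_b15 : allBlock (chkScan actA qs asg23 5 kids23) 31671 2048 15 = true := by decide +kernel

theorem scan23 : ∀ i < 31671, (chkScan actA qs asg23 5 kids23) i = true :=
  of_blocks (size := 2048) (b := 16) (by decide) (by decide) fun j hj => by
    interval_cases j
    · exact scan23_b0
    · exact scan23_b1
    · exact scan23_b2
    · exact scan23_b3
    · exact scan23_b4
    · exact scan23_b5
    · exact scan23_b6
    · exact scan23_b7
    · exact scan23_b8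
    · exact scan23_b9
    · exact scan23_b10
    · exact scan23_b11
    · exact scan23_b12
    · exact scan23_b13
    · exact scan23_b14
    · exact scan23_b15

theorem scan24_b0 : allBlock (chkScan actA qs asg24 3 kids24) 31671 2048 0 = true := by decide +kernel

theorem scan24_b1 : allBlock (chkScan actA qs asg24 3 kids24) 31671 2048 1 = true := by decide +kernel

theorem scan24_b2 : allBlock (chkScan actA qs asg24 3 kids24) 31671 2048 2 = true := by decide +kernel

theorem scan24_b3 : allBlock (chkScan actA qs asg24 3 kids24) 31671 2048 3 = true := by decide +kernel

theorem scan24_b4 : allBlock (chkScan actA qs asg24 3 kids24) 31671 2048 4 = true := by decide +kernel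

theorem scan24_b5 : allBlock (chkScan actA qs asg24 3 kids24) 31671 2048 5 = true := by decide +kernel

theorem scan24_b6 : allBlock (chkScan actA qs asg24 3 kids24) 31671 2048 6 = true := by decide +kernel

theorem scan24_b7 : allBlock (chkScan actA qs asg24 3 kids24) 31671 2048 7 = true := by decide +kernel

theorem scan24_b8 : allBlock (chkScan actA qs asg24 3 kids24) 31671 2048 8 = true := by decide +kernel

theorem scan24_b9 : allBlock (chkScan actA qs asg24 3 kids24) 31671 2048 9 = true := by decide +kernel

theorem scan24_b10 : allBlock (chkScan actA qs asg24 3 kids24) 31671 2048 10 = true := by decide +kernel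

theorem scan24_b11 : allBlock (chkScan actA qs asg24 3 kids24) 31671 2048 11 = true := by decide +kernel

theorem scan24_b12 : allBlock (chkScan actA qs asg24 3 kids24) 31671 2048 12 = true := by decide +kernel

theorem scan24_b13 : allBlock (chkScan actA qs asg24 3 kids24) 31671 2048 13 = true := by decide +kernel

theorem scan24_b14 : allBlock (chkScan actA qs asg24 3 kids24) 31671 2048 14 = true := by decide +kernel

theorem scan24_b15 : allBlock (chkScan actA qs asg24 3 kids24) 31671 2048 15 = true := by decide +kernel

theorem scan24 : ∀ i < 31671, (chkScan actA qs asg24 3 kids24) i = true :=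
  of_blocks (size := 2048) (b := 16) (by decide) (by decide) fun j hj => by
    interval_cases j
    · exact scan24_b0
    · exact scan24_b1
    · exact scan24_b2
    · exact scan24_b3
    · exact scan24_b4
    · exact scan24_b5
    · exact scan24_b6
    · exact scan24_b7
    · exact scan24_b8
    · exact scan24_b9
    · exact scan24_b10
    · exact scan24_b11
    · exact scan24_b12
    · exact scan24_b13
    · exact scan24_b14
    · exact scan24_b15


end Cfsg.Agent.Fus.Fi23Out
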