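import Cfsg.Agent.Lib.Spor.Cos.Fi23.Trans
import Cfsg.Agent.Lib.Fus.TranspOut
import Cfsg.Agent.Lib.Fus.Fi23Out.Chain0
import Cfsg.Agent.Lib.Fus.Fi23Out.Chain1
import Cfsg.Agent.Lib.Fus.Fi23Out.Chain2
import Cfsg.Agent.Lib.Fus.Fi23Out.Cand0
import Cfsg.Agent.Lib.Fus.Fi23Out.Cand1
import Cfsg.Agent.Lib.Fus.Fi23Out.Cand2
import Cfsg.Agent.Lib.Fus.Fi23Out.Enum
import Cfsg.Agent.Lib.Fus.Fi23Out.Dfs
import Cfsg.Agent.Lib.Fus.Fi23Out.Orbs0
import Cfsg.Agent.Lib.Fus.Fi23Out.Orbs1
import Cfsg.Agent.Lib.Fus.Fi23Out.Scan0
import Cfsg.Agent.Lib.Fus.Fi23Out.Scan1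
import Cfsg.Agent.Lib.Fus.Fi23Out.Scan2
import Cfsg.Agent.Lib.Fus.Fi23Out.Scan3
import Cfsg.Agent.Lib.Fus.Fi23Out.Scan4
import Cfsg.Agent.Lib.Fus.Fi23Out.Scan5

/-!
The outer automorphism group of Fi23: transpositions go to transpositions, and their tuples with the pattern of the
generators form few classes.
-/

set_option autoImplicit false
set_option maxRecDepth 100000
set_option maxHeartbeats 4000000

open Cfsg.Agent.Spor.Cos Cfsg.Agent.Spor.Cos.Triple Cfsg.Agent.Fus.Transp

namespace Cfsg.Agent.Fus.Fi23Out

open Cfsg.Agent.Spor.Cos.Fi23 (g actA homA actA piA homA baseA)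

theorem qgen_ok : ((List.range 10).all fun s => ((qu.getD s []).all fun t => Nat.blt t 10) &&
    Nat.beq (actA.go (qu.getD s []) 0) (qs.getD s 0) &&
    sameW actA [0, 1, 2, 3, 4, 5, 6, 8, 9] [s] (conjW tw (qu.getD s []))) = true := by decide +kernel

theorem center_trivial (y : Cfsg.Spor.Fi23) (h : ∀ z, y * z = z * y) : y = 1 := by
  have := Cfsg.Agent.Spor.Cos.Fi23.isSimple
  rw [← Subgroup.mem_bot]
  have hy : y ∈ Subgroup.center Cfsg.Spor.Fi23 := Subgroup.mem_center_iff.2 fun z => (h z).symm
  rcases IsSimpleGroup.eq_bot_or_eq_top_of_normal (Subgroup.center Cfsg.Spor.Fi23) inferInstance with e | e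
  · rwa [e] at hy
  · exfalso
    have e' : ev g [0, 1] = ev g [1, 0] := by
      have := Subgroup.mem_center_iff.1 (e ▸ Subgroup.mem_top (g 0) : g 0 ∈ Subgroup.center _) (g 1)
      simpa [ev] using this.symm
    have h1 := agree_of_eq homA (pts := [0, 1, 2, 3, 4, 5, 6, 8, 9]) (by decide +kernel)
      (fun s hs => (by decide +kernel : ∀ s ∈ [0, 1], s < actA.n) s hs)
      (fun s hs => (by decide +kernel : ∀ s ∈ [1, 0], s < actA.n) s hs) e'
    have h2 : agree actA [0, 1, 2, 3, 4, 5, 6, 8, 9] [0, 1] [1, 0] = false := by decide +kernel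
    rw [h2] at h1
    exact Bool.noConfusion h1

theorem setup : Setup g actA piA qs baseA tw where
  hom := homA
  sq := Cfsg.Agent.Spor.Cos.Fi23.g_sq
  gen := Cfsg.Agent.Spor.Cos.Fi23.g_gen
  center := center_trivial
  tr := Cfsg.Agent.Spor.Cos.Fi23.trA
  cent := fun y => by
    show y * Cfsg.Agent.Spor.Cos.Fi23.tz = Cfsg.Agent.Spor.Cos.Fi23.tz * y ↔ _
    rw [← Subgroup.mem_centralizer_singleton_iff, Cfsg.Agent.Spor.Cos.Fi23.centralizer_tz, Cfsg.Agent.Spor.Cos.Fi23.stabA, mem_stab]
  qlen := by decide +kernel
  qgen := fun s hs => by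
    have h := List.all_eq_true.1 qgen_ok s (List.mem_range.2 hs)
    simp only [Bool.and_eq_true, List.all_eq_true] at h
    obtain ⟨⟨hl, hgo⟩, hw⟩ := h
    have hl' : ∀ t ∈ qu.getD s [], t < actA.n := fun t ht => Nat.le_of_ble_eq_true (hl t ht)
    refine ⟨ev g (qu.getD s []), (homA.apply_ev _ hl' baseA).trans (Nat.eq_of_beq_eq_true hgo), ?_⟩
    have e := eq_of_sameW (g := g) homA Cfsg.Agent.Spor.Cos.Fi23.det hw
    rw [conjW, ev_append, ev_append, ev_reverse (fun t _ => Cfsg.Agent.Spor.Cos.Fi23.g_sq t) _ hl', ← mul_assoc] at e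
    simpa [ev] using e

theorem chain_ok : ((List.range chainH.length).all fun i => chkChain actA qs chainH chainE i) = true := by
  refine List.all_eq_true.2 fun i hi => ?_
  have hi' : i < 18 := List.mem_range.1 hi
  interval_cases i
  · exact chain0_ok
  · exact chain1_ok
  · exact chain2_ok
  · exact chain3_ok
  · exact chain4_ok
  · exact chain5_ok
  · exact chain6_ok
  · exact chain7_ok
  · exact chain8_ok
  · exact chain9_ok
  · exact chain10_ok
  · exact chain11_ok
  · exact chain12_ok
  · exact chain13_ok
  · exact chain14_ok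
  · exact chain15_ok
  · exact chain16_ok
  · exact chain17_ok

theorem cand_ok : ∀ R ∈ rts, ∀ p < actA.N, chkCand actA R p = true := by
  intro R hR
  simp only [rts, List.mem_cons, List.not_mem_nil, or_false] at hR
  rcases hR with rfl | rfl | rfl | rfl | rfl | rfl | rfl | rfl
  · exact cand0_ok
  · exact cand1_ok
  · exact cand2_ok
  · exact cand3_ok
  · exact cand4_ok
  · exact cand5_ok
  · exact cand6_ok
  · exact cand7_ok

theorem tz_class (φ : MulAut Cfsg.Spor.Fi23) : IsConj (ev g tw) (φ (ev g tw)) := by
  have := Cfsg.Agent.Spor.Cos.Fi23.finite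
  refine setup.cls_fixed Cfsg.Agent.Spor.Cos.Fi23.tz_sq ?_ Cfsg.Agent.Spor.Cos.Fi23.prod_pow ?_ chain_ok (by decide +kernel) sq_ok
    (zs := zs) (fun x hx => setup.centralizer_listed (by decide +kernel) (List.all_eq_true.1 rts_ok) cand_ok
      dvs_ok dfs_ok x hx) zs_ok φ
  · show Cfsg.Agent.Spor.Cos.Fi23.tz ≠ 1
    intro h
    have := Cfsg.Agent.Spor.Cos.Fi23.orderOf_tz
    rw [h, orderOf_one] at this
    omega
  · show Nat.card (conjugatesOf Cfsg.Agent.Spor.Cos.Fi23.tz) % 4 ≠ 0
    rw [Cfsg.Agent.Spor.Cos.Fi23.card_class]
    decide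

/-- The permutations of the generators allowed. -/
def sigs : List (List ℕ) := [List.range 10]

theorem node24 : ∀ φ, setup.Match asg24 φ → Setup.Good g actA.n sigs φ :=
  setup.step tz_class (ws := ws24) (j := 3) (kids := kids24) (by decide +kernel) (fun k hk => by simp [kids24] at hk) scan24
    (fun k hk => by simp [kids24] at hk)

theorem node23 : ∀ φ, setup.Match asg23 φ → Setup.Good g actA.n sigs φ :=
  setup.step tz_class (ws := ws23) (j := 5) (kids := kids23) (by decide +kernel) (fun k hk => by simp [kids23] at hk) scan23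
    (fun k hk => by simp [kids23] at hk)

theorem node22 : ∀ φ, setup.Match asg22 φ → Setup.Good g actA.n sigs φ :=
  setup.step tz_class (ws := ws22) (j := 6) (kids := kids22) (by decide +kernel) (fun k hk => by simp [kids22] at hk) scan22
    (fun k hk => by simp [kids22] at hk)

theorem node21 : ∀ φ, setup.Match asg21 φ → Setup.Good g actA.n sigs φ :=
  setup.step tz_class (ws := ws21) (j := 9) (kids := kids21) (by decide +kernel) (fun k hk => by
    simp only [kids21, List.mem_cons, List.not_mem_nil, or_false] at hk
    rcases hk with rfl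
    · exact o22_ok
  ) scan21 (fun k hk => by
    simp only [kids21, List.mem_cons, List.not_mem_nil, or_false] at hk
    rcases hk with rfl
    · exact node22
  )

theorem node20 : ∀ φ, setup.Match asg20 φ → Setup.Good g actA.n sigs φ :=
  setup.step tz_class (ws := ws20) (j := 5) (kids := kids20) (by decide +kernel) (fun k hk => by
    simp only [kids20, List.mem_cons, List.not_mem_nil, or_false] at hk
    rcases hk with rfl
    · exact o21_ok
  ) scan20 (fun k hk => by
    simp only [kids20, List.mem_cons, List.not_mem_nil, or_false] at hk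
    rcases hk with rfl
    · exact node21
  )

theorem node19 : ∀ φ, setup.Match asg19 φ → Setup.Good g actA.n sigs φ :=
  setup.step tz_class (ws := ws19) (j := 8) (kids := kids19) (by decide +kernel) (fun k hk => by
    simp only [kids19, List.mem_cons, List.not_mem_nil, or_false] at hk
    rcases hk with rfl | rfl
    · exact o20_ok
    · exact o23_ok
  ) scan19 (fun k hk => by
    simp only [kids19, List.mem_cons, List.not_mem_nil, or_false] at hk
    rcases hk with rfl | rfl
    · exact node20
    · exact node23
  )

theorem node18 : ∀ φ, setup.Match asg18 φ → Setup.Good g actA.n sigs φ :=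
  setup.step tz_class (ws := ws18) (j := 5) (kids := kids18) (by decide +kernel) (fun k hk => by simp [kids18] at hk) scan18
    (fun k hk => by simp [kids18] at hk)

theorem node17 : ∀ φ, setup.Match asg17 φ → Setup.Good g actA.n sigs φ :=
  setup.step tz_class (ws := ws17) (j := 7) (kids := kids17) (by decide +kernel) (fun k hk => by simp [kids17] at hk) scan17
    (fun k hk => by simp [kids17] at hk)

theorem node16 : ∀ φ, setup.Match asg16 φ → Setup.Good g actA.n sigs φ :=
  setup.step tz_class (ws := ws16) (j := 6) (kids := kids16) (by decide +kernel) (fun k hk => by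
    simp only [kids16, List.mem_cons, List.not_mem_nil, or_false] at hk
    rcases hk with rfl
    · exact o17_ok
  ) scan16 (fun k hk => by
    simp only [kids16, List.mem_cons, List.not_mem_nil, or_false] at hk
    rcases hk with rfl
    · exact node17
  )

theorem node15 : ∀ φ, setup.Match asg15 φ → Setup.Good g actA.n sigs φ :=
  setup.step tz_class (ws := ws15) (j := 7) (kids := kids15) (by decide +kernel) (fun k hk => by simp [kids15] at hk) scan15
    (fun k hk => by simp [kids15] at hk)

theorem node14 : ∀ φ, setup.Match asg14 φ → Setup.Good g actA.n sigs φ :=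
  setup.step tz_class (ws := ws14) (j := 6) (kids := kids14) (by decide +kernel) (fun k hk => by
    simp only [kids14, List.mem_cons, List.not_mem_nil, or_false] at hk
    rcases hk with rfl
    · exact o15_ok
  ) scan14 (fun k hk => by
    simp only [kids14, List.mem_cons, List.not_mem_nil, or_false] at hk
    rcases hk with rfl
    · exact node15
  )

theorem node13 : ∀ φ, setup.Match asg13 φ → Setup.Good g actA.n sigs φ :=
  setup.step tz_class (ws := ws13) (j := 9) (kids := kids13) (by decide +kernel) (fun k hk => by
    simp only [kids13, List.mem_cons, List.not_mem_nil, or_false] at hk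
    rcases hk with rfl | rfl
    · exact o14_ok
    · exact o16_ok
  ) scan13 (fun k hk => by
    simp only [kids13, List.mem_cons, List.not_mem_nil, or_false] at hk
    rcases hk with rfl | rfl
    · exact node14
    · exact node16
  )

theorem node12 : ∀ φ, setup.Match asg12 φ → Setup.Good g actA.n sigs φ :=
  setup.step tz_class (ws := ws12) (j := 6) (kids := kids12) (by decide +kernel) (fun k hk => by simp [kids12] at hk) scan12
    (fun k hk => by simp [kids12] at hk)

theorem node11 : ∀ φ, setup.Match asg11 φ → Setup.Good g actA.n sigs φ :=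
  setup.step tz_class (ws := ws11) (j := 9) (kids := kids11) (by decide +kernel) (fun k hk => by
    simp only [kids11, List.mem_cons, List.not_mem_nil, or_false] at hk
    rcases hk with rfl
    · exact o12_ok
  ) scan11 (fun k hk => by
    simp only [kids11, List.mem_cons, List.not_mem_nil, or_false] at hk
    rcases hk with rfl
    · exact node12
  )

theorem node10 : ∀ φ, setup.Match asg10 φ → Setup.Good g actA.n sigs φ :=
  setup.step tz_class (ws := ws10) (j := 5) (kids := kids10) (by decide +kernel) (fun k hk => by
    simp only [kids10, List.mem_cons, List.not_mem_nil, or_false] at hk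
    rcases hk with rfl | rfl
    · exact o11_ok
    · exact o13_ok
  ) scan10 (fun k hk => by
    simp only [kids10, List.mem_cons, List.not_mem_nil, or_false] at hk
    rcases hk with rfl | rfl
    · exact node11
    · exact node13
  )

theorem node9 : ∀ φ, setup.Match asg9 φ → Setup.Good g actA.n sigs φ :=
  setup.leaf (σ := sig9) (z := zw9) (by decide +kernel) (by decide +kernel)

theorem node8 : ∀ φ, setup.Match asg8 φ → Setup.Good g actA.n sigs φ :=
  setup.step tz_class (ws := ws8) (j := 7) (kids := kids8) (by decide +kernel) (fun k hk => by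
    simp only [kids8, List.mem_cons, List.not_mem_nil, or_false] at hk
    rcases hk with rfl
    · exact o9_ok
  ) scan8 (fun k hk => by
    simp only [kids8, List.mem_cons, List.not_mem_nil, or_false] at hk
    rcases hk with rfl
    · exact node9
  )

theorem node7 : ∀ φ, setup.Match asg7 φ → Setup.Good g actA.n sigs φ :=
  setup.step tz_class (ws := ws7) (j := 6) (kids := kids7) (by decide +kernel) (fun k hk => by
    simp only [kids7, List.mem_cons, List.not_mem_nil, or_false] at hk
    rcases hk with rfl
    · exact o8_ok
  ) scan7 (fun k hk => by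
    simp only [kids7, List.mem_cons, List.not_mem_nil, or_false] at hk
    rcases hk with rfl
    · exact node8
  )

theorem node6 : ∀ φ, setup.Match asg6 φ → Setup.Good g actA.n sigs φ :=
  setup.step tz_class (ws := ws6) (j := 9) (kids := kids6) (by decide +kernel) (fun k hk => by
    simp only [kids6, List.mem_cons, List.not_mem_nil, or_false] at hk
    rcases hk with rfl
    · exact o7_ok
  ) scan6 (fun k hk => by
    simp only [kids6, List.mem_cons, List.not_mem_nil, or_false] at hk
    rcases hk with rfl
    · exact node7
  )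

theorem node5 : ∀ φ, setup.Match asg5 φ → Setup.Good g actA.n sigs φ :=
  setup.step tz_class (ws := ws5) (j := 5) (kids := kids5) (by decide +kernel) (fun k hk => by
    simp only [kids5, List.mem_cons, List.not_mem_nil, or_false] at hk
    rcases hk with rfl
    · exact o6_ok
  ) scan5 (fun k hk => by
    simp only [kids5, List.mem_cons, List.not_mem_nil, or_false] at hk
    rcases hk with rfl
    · exact node6
  )

theorem node4 : ∀ φ, setup.Match asg4 φ → Setup.Good g actA.n sigs φ :=
  setup.step tz_class (ws := ws4) (j := 8) (kids := kids4) (by decide +kernel) (fun k hk => by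
    simp only [kids4, List.mem_cons, List.not_mem_nil, or_false] at hk
    rcases hk with rfl | rfl | rfl
    · exact o5_ok
    · exact o10_ok
    · exact o18_ok
  ) scan4 (fun k hk => by
    simp only [kids4, List.mem_cons, List.not_mem_nil, or_false] at hk
    rcases hk with rfl | rfl | rfl
    · exact node5
    · exact node10
    · exact node18
  )

theorem node3 : ∀ φ, setup.Match asg3 φ → Setup.Good g actA.n sigs φ :=
  setup.step tz_class (ws := ws3) (j := 4) (kids := kids3) (by decide +kernel) (fun k hk => by
    simp only [kids3, List.mem_cons, List.not_mem_nil, or_false] at hk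
    rcases hk with rfl | rfl
    · exact o4_ok
    · exact o19_ok
  ) scan3 (fun k hk => by
    simp only [kids3, List.mem_cons, List.not_mem_nil, or_false] at hk
    rcases hk with rfl | rfl
    · exact node4
    · exact node19
  )

theorem node2 : ∀ φ, setup.Match asg2 φ → Setup.Good g actA.n sigs φ :=
  setup.step tz_class (ws := ws2) (j := 3) (kids := kids2) (by decide +kernel) (fun k hk => by
    simp only [kids2, List.mem_cons, List.not_mem_nil, or_false] at hk
    rcases hk with rfl
    · exact o3_ok
  ) scan2 (fun k hk => by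
    simp only [kids2, List.mem_cons, List.not_mem_nil, or_false] at hk
    rcases hk with rfl
    · exact node3
  )

theorem node1 : ∀ φ, setup.Match asg1 φ → Setup.Good g actA.n sigs φ :=
  setup.step tz_class (ws := ws1) (j := 2) (kids := kids1) (by decide +kernel) (fun k hk => by
    simp only [kids1, List.mem_cons, List.not_mem_nil, or_false] at hk
    rcases hk with rfl | rfl
    · exact o2_ok
    · exact o24_ok
  ) scan1 (fun k hk => by
    simp only [kids1, List.mem_cons, List.not_mem_nil, or_false] at hk
    rcases hk with rfl | rfl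
    · exact node2
    · exact node24
  )

theorem node0 : ∀ φ, setup.Match asg0 φ → Setup.Good g actA.n sigs φ :=
  setup.step tz_class (ws := ws0) (j := 1) (kids := kids0) (by decide +kernel) (fun k hk => by
    simp only [kids0, List.mem_cons, List.not_mem_nil, or_false] at hk
    rcases hk with rfl
    · exact o1_ok
  ) scan0 (fun k hk => by
    simp only [kids0, List.mem_cons, List.not_mem_nil, or_false] at hk
    rcases hk with rfl
    · exact node1
  )

theorem good (φ : MulAut Cfsg.Spor.Fi23) : Setup.Good g 10 sigs φ :=
  setup.root tz_class (j := 0) (by decide +kernel) (e := (asg0.getD 0 (0, ⟨0, [], []⟩)).2)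
    (by decide +kernel) node0 φ

/-- The outer automorphism group of Fi23 is trivial. -/
theorem card_out : Nat.card (Cfsg.Out Cfsg.Spor.Fi23) = 1 :=
  card_out_one (n := 10) Cfsg.Agent.Spor.Cos.Fi23.g_gen good

end Cfsg.Agent.Fus.Fi23Out
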