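import Cfsg.Agent.Lib.Fus.Fi23Out.TreeData
import Cfsg.Agent.Lib.Fus.Fi23Out.ClassData
import Cfsg.Agent.Lib.Spor.Cos.Fi23.ActAData

/-! Checks of tuples. -/

set_option autoImplicit false
set_option maxRecDepth 100000
set_option maxHeartbeats 4000000

open Cfsg.Agent.Spor.Cos Cfsg.Agent.Spor.Cos.Triple Cfsg.Agent.Fus.Transp

namespace Cfsg.Agent.Fus.Fi23Out

open Cfsg.Agent.Spor.Cos.Fi23 (actA)

theorem scan4_b0 : allBlock (chkScan actA qs asg4 8 kids4) 31671 2048 0 = true := by decide +kernel

theorem scan4_b1 : allBlock (chkScan actA qs asg4 8 kids4) 31671 2048 1 = true := by decide +kernel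

theorem scan4_b2 : allBlock (chkScan actA qs asg4 8 kids4) 31671 2048 2 = true := by decide +kernel

theorem scan4_b3 : allBlock (chkScan actA qs asg4 8 kids4) 31671 2048 3 = true := by decide +kernel

theorem scan4_b4 : allBlock (chkScan actA qs asg4 8 kids4) 31671 2048 4 = true := by decide +kernel

theorem scan4_b5 : allBlock (chkScan actA qs asg4 8 kids4) 31671 2048 5 = true := by decide +kernel

theorem scan4_b6 : allBlock (chkScan actA qs asg4 8 kids4) 31671 2048 6 = true := by decide +kernel

theorem scan4_b7 : allBlock (chkScan actA qs asg4 8 kids4) 31671 2048 7 = true := by decide +kernel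

theorem scan4_b8 : allBlock (chkScan actA qs asg4 8 kids4) 31671 2048 8 = true := by decide +kernel

theorem scan4_b9 : allBlock (chkScan actA qs asg4 8 kids4) 31671 2048 9 = true := by decide +kernel

theorem scan4_b10 : allBlock (chkScan actA qs asg4 8 kids4) 31671 2048 10 = true := by decide +kernel

theorem scan4_b11 : allBlock (chkScan actA qs asg4 8 kids4) 31671 2048 11 = true := by decide +kernel

theorem scan4_b12 : allBlock (chkScan actA qs asg4 8 kids4) 31671 2048 12 = true := by decide +kernel

theorem scan4_b13 : allBlock (chkScan actA qs asg4 8 kids4) 31671 2048 13 = true := by decide +kernel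

theorem scan4_b14 : allBlock (chkScan actA qs asg4 8 kids4) 31671 2048 14 = true := by decide +kernel

theorem scan4_b15 : allBlock (chkScan actA qs asg4 8 kids4) 31671 2048 15 = true := by decide +kernel

theorem scan4 : ∀ i < 31671, (chkScan actA qs asg4 8 kids4) i = true :=
  of_blocks (size := 2048) (b := 16) (by decide) (by decide) fun j hj => by
    interval_cases j
    · exact scan4_b0
    · exact scan4_b1
    · exact scan4_b2
    · exact scan4_b3
    · exact scan4_b4
    · exact scan4_b5
    · exact scan4_b6
    · exact scan4_b7
    · exact scan4_b8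
    · exact scan4_b9
    · exact scan4_b10
    · exact scan4_b11
    · exact scan4_b12
    · exact scan4_b13
    · exact scan4_b14
    · exact scan4_b15

theorem scan5_b0 : allBlock (chkScan actA qs asg5 5 kids5) 31671 2048 0 = true := by decide +kernel

theorem scan5_b1 : allBlock (chkScan actA qs asg5 5 kids5) 31671 2048 1 = true := by decide +kernel

theorem scan5_b2 : allBlock (chkScan actA qs asg5 5 kids5) 31671 2048 2 = true := by decide +kernel

theorem scan5_b3 : allBlock (chkScan actA qs asg5 5 kids5) 31671 2048 3 = true := by decide +kernel

theorem scan5_b4 : allBlock (chkScan actA qs asg5 5 kids5) 31671 2048 4 = true := by decide +kernel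

theorem scan5_b5 : allBlock (chkScan actA qs asg5 5 kids5) 31671 2048 5 = true := by decide +kernel

theorem scan5_b6 : allBlock (chkScan actA qs asg5 5 kids5) 31671 2048 6 = true := by decide +kernel

theorem scan5_b7 : allBlock (chkScan actA qs asg5 5 kids5) 31671 2048 7 = true := by decide +kernel

theorem scan5_b8 : allBlock (chkScan actA qs asg5 5 kids5) 31671 2048 8 = true := by decide +kernel

theorem scan5_b9 : allBlock (chkScan actA qs asg5 5 kids5) 31671 2048 9 = true := by decide +kernel

theorem scan5_b10 : allBlock (chkScan actA qs asg5 5 kids5) 31671 2048 10 = true := by decide +kernel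

theorem scan5_b11 : allBlock (chkScan actA qs asg5 5 kids5) 31671 2048 11 = true := by decide +kernel

theorem scan5_b12 : allBlock (chkScan actA qs asg5 5 kids5) 31671 2048 12 = true := by decide +kernel

theorem scan5_b13 : allBlock (chkScan actA qs asg5 5 kids5) 31671 2048 13 = true := by decide +kernel

theorem scan5_b14 : allBlock (chkScan actA qs asg5 5 kids5) 31671 2048 14 = true := by decide +kernel

theorem scan5_b15 : allBlock (chkScan actA qs asg5 5 kids5) 31671 2048 15 = true := by decide +kernel

theorem scan5 : ∀ i < 31671, (chkScan actA qs asg5 5 kids5) i = true :=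
  of_blocks (size := 2048) (b := 16) (by decide) (by decide) fun j hj => by
    interval_cases j
    · exact scan5_b0
    · exact scan5_b1
    · exact scan5_b2
    · exact scan5_b3
    · exact scan5_b4
    · exact scan5_b5
    · exact scan5_b6
    · exact scan5_b7
    · exact scan5_b8
    · exact scan5_b9
    · exact scan5_b10
    · exact scan5_b11
    · exact scan5_b12
    · exact scan5_b13
    · exact scan5_b14
    · exact scan5_b15

theorem scan6_b0 : allBlock (chkScan actA qs asg6 9 kids6) 31671 2048 0 = true := by decide +kernel

theorem scan6_b1 : allBlock (chkScan actA qs asg6 9 kids6) 31671 2048 1 = true := by decide +kernel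

theorem scan6_b2 : allBlock (chkScan actA qs asg6 9 kids6) 31671 2048 2 = true := by decide +kernel

theorem scan6_b3 : allBlock (chkScan actA qs asg6 9 kids6) 31671 2048 3 = true := by decide +kernel

theorem scan6_b4 : allBlock (chkScan actA qs asg6 9 kids6) 31671 2048 4 = true := by decide +kernel

theorem scan6_b5 : allBlock (chkScan actA qs asg6 9 kids6) 31671 2048 5 = true := by decide +kernel

theorem scan6_b6 : allBlock (chkScan actA qs asg6 9 kids6) 31671 2048 6 = true := by decide +kernel

theorem scan6_b7 : allBlock (chkScan actA qs asg6 9 kids6) 31671 2048 7 = true := by decide +kernel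

theorem scan6_b8 : allBlock (chkScan actA qs asg6 9 kids6) 31671 2048 8 = true := by decide +kernel

theorem scan6_b9 : allBlock (chkScan actA qs asg6 9 kids6) 31671 2048 9 = true := by decide +kernel

theorem scan6_b10 : allBlock (chkScan actA qs asg6 9 kids6) 31671 2048 10 = true := by decide +kernel

theorem scan6_b11 : allBlock (chkScan actA qs asg6 9 kids6) 31671 2048 11 = true := by decide +kernel

theorem scan6_b12 : allBlock (chkScan actA qs asg6 9 kids6) 31671 2048 12 = true := by decide +kernel

theorem scan6_b13 : allBlock (chkScan actA qs asg6 9 kids6) 31671 2048 13 = true := by decide +kernel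

theorem scan6_b14 : allBlock (chkScan actA qs asg6 9 kids6) 31671 2048 14 = true := by decide +kernel

theorem scan6_b15 : allBlock (chkScan actA qs asg6 9 kids6) 31671 2048 15 = true := by decide +kernel

theorem scan6 : ∀ i < 31671, (chkScan actA qs asg6 9 kids6) i = true :=
  of_blocks (size := 2048) (b := 16) (by decide) (by decide) fun j hj => by
    interval_cases j
    · exact scan6_b0
    · exact scan6_b1
    · exact scan6_b2
    · exact scan6_b3
    · exact scan6_b4
    · exact scan6_b5
    · exact scan6_b6
    · exact scan6_b7
    · exact scan6_b8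
    · exact scan6_b9
    · exact scan6_b10
    · exact scan6_b11
    · exact scan6_b12
    · exact scan6_b13
    · exact scan6_b14
    · exact scan6_b15

theorem scan7_b0 : allBlock (chkScan actA qs asg7 6 kids7) 31671 2048 0 = true := by decide +kernel

theorem scan7_b1 : allBlock (chkScan actA qs asg7 6 kids7) 31671 2048 1 = true := by decide +kernel

theorem scan7_b2 : allBlock (chkScan actA qs asg7 6 kids7) 31671 2048 2 = true := by decide +kernel

theorem scan7_b3 : allBlock (chkScan actA qs asg7 6 kids7) 31671 2048 3 = true := by decide +kernel

theorem scan7_b4 : allBlock (chkScan actA qs asg7 6 kids7) 31671 2048 4 = true := by decide +kernel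

theorem scan7_b5 : allBlock (chkScan actA qs asg7 6 kids7) 31671 2048 5 = true := by decide +kernel

theorem scan7_b6 : allBlock (chkScan actA qs asg7 6 kids7) 31671 2048 6 = true := by decide +kernel

theorem scan7_b7 : allBlock (chkScan actA qs asg7 6 kids7) 31671 2048 7 = true := by decide +kernel

theorem scan7_b8 : allBlock (chkScan actA qs asg7 6 kids7) 31671 2048 8 = true := by decide +kernel

theorem scan7_b9 : allBlock (chkScan actA qs asg7 6 kids7) 31671 2048 9 = true := by decide +kernel

theorem scan7_b10 : allBlock (chkScan actA qs asg7 6 kids7) 31671 2048 10 = true := by decide +kernel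

theorem scan7_b11 : allBlock (chkScan actA qs asg7 6 kids7) 31671 2048 11 = true := by decide +kernel

theorem scan7_b12 : allBlock (chkScan actA qs asg7 6 kids7) 31671 2048 12 = true := by decide +kernel

theorem scan7_b13 : allBlock (chkScan actA qs asg7 6 kids7) 31671 2048 13 = true := by decide +kernel

theorem scan7_b14 : allBlock (chkScan actA qs asg7 6 kids7) 31671 2048 14 = true := by decide +kernel

theorem scan7_b15 : allBlock (chkScan actA qs asg7 6 kids7) 31671 2048 15 = true := by decide +kernel

theorem scan7 : ∀ i < 31671, (chkScan actA qs asg7 6 kids7) i = true :=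
  of_blocks (size := 2048) (b := 16) (by decide) (by decide) fun j hj => by
    interval_cases j
    · exact scan7_b0
    · exact scan7_b1
    · exact scan7_b2
    · exact scan7_b3
    · exact scan7_b4
    · exact scan7_b5
    · exact scan7_b6
    · exact scan7_b7
    · exact scan7_b8
    · exact scan7_b9
    · exact scan7_b10
    · exact scan7_b11
    · exact scan7_b12
    · exact scan7_b13
    · exact scan7_b14
    · exact scan7_b15


end Cfsg.Agent.Fus.Fi23Out
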